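import Mathlib
import Cfsg.Prelude.Def_Spor_J3

/-!
Nine by nine matrices over the field with four elements whose order is seventeen or nineteen: a matrix of
order nineteen is irreducible, and the normaliser of a matrix of order seventeen does not induce all sixteen
automorphisms.
-/

set_option autoImplicit false
set_option linter.style.haveILetI false

namespace Cfsg.Agent.Lib.J3.ModelLocal

open Cfsg.Spor

/-- A nontrivial endomorphism of odd period in characteristic two has an eigenvalue other than one. -/
theorem exists_eigen {K V : Type*} [Field K] [IsAlgClosed K] [AddCommGroup V] [Module K V]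
    [FiniteDimensional K V] (h2 : (2 : K) = 0) {p : ℕ} (hp : Odd p) {f : Module.End K V} (hf : f ^ p = 1)
    (hne : f ≠ 1) : ∃ (ζ : K) (v : V), v ≠ 0 ∧ f v = ζ • v ∧ ζ ^ p = 1 ∧ ζ ≠ 1 := by
  set g : Module.End K V := f - 1 with hg
  have hinv : ∀ w ∈ LinearMap.range g, f w ∈ LinearMap.range g := by
    rintro _ ⟨u, rfl⟩
    exact ⟨f u, by simp [hg]⟩
  haveI : Nontrivial (LinearMap.range g) := by
    rw [Submodule.nontrivial_iff_ne_bot, Ne, LinearMap.range_eq_bot]
    exact sub_ne_zero.2 hne
  obtain ⟨ζ, hζ⟩ := Module.End.exists_eigenvalue (f.restrict hinv)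
  obtain ⟨⟨v, u, hu⟩, hv⟩ := hζ.exists_hasEigenvector
  have hv0 : v ≠ 0 := fun e => hv.2 (Subtype.ext e)
  have hfv : f v = ζ • v := congrArg Subtype.val hv.apply_eq_smul
  have hpow : ∀ k : ℕ, (f ^ k) v = ζ ^ k • v := by
    intro k
    induction k with
    | zero => simp
    | succ k ih => rw [pow_succ', Module.End.mul_apply, ih, map_smul, hfv, smul_smul, pow_succ]
  refine ⟨ζ, v, hv0, hfv, ?_, fun h1 => hv0 ?_⟩
  · have e := hpow p
    rw [hf, Module.End.one_apply] at e
    exact smul_left_injective K hv0 (by simp only [one_smul]; exact e.symm)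
  · rw [h1, one_smul] at hfv
    have hfu : f u = u + v := by rw [← hu]; simp [hg]
    have hk : ∀ k : ℕ, (f ^ k) u = u + (k : K) • v := by
      intro k
      induction k with
      | zero => simp
      | succ k ih =>
        rw [pow_succ', Module.End.mul_apply, ih, map_add, map_smul, hfv, hfu, Nat.cast_succ, add_smul, one_smul]
        abel
    have e := hk p
    obtain ⟨m, rfl⟩ := hp
    rw [hf, Module.End.one_apply, Nat.cast_add, Nat.cast_mul, Nat.cast_one, Nat.cast_ofNat, h2, zero_mul,
      zero_add, one_smul] at e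
    simpa using e.symm

variable {F : Type*} [Field F] [Fintype F]

theorem two_eq_zero (hF : Fintype.card F = 4) : (2 : F) = 0 := by
  have h : ((4 : ℕ) : F) = 0 := hF ▸ Nat.cast_card_eq_zero F
  refine pow_eq_zero_iff (n := 2) two_ne_zero |>.1 ?_
  rw [← h]; push_cast; ring

/-- The automorphism raising to the fourth power. -/
theorem exists_frob (hF : Fintype.card F = 4) :
    ∃ σ : AlgebraicClosure F →+* AlgebraicClosure F, (∀ x, σ x = x ^ 4) ∧
      ∀ a : F, σ (algebraMap F (AlgebraicClosure F) a) = algebraMap F (AlgebraicClosure F) a := by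
  set K := AlgebraicClosure F
  have h2 : (2 : K) = 0 := by rw [← map_ofNat (algebraMap F K) 2, two_eq_zero hF, map_zero]
  haveI : CharP K 2 := CharP.ringChar_of_prime_eq_zero Nat.prime_two (by exact_mod_cast h2) |>.symm ▸ ringChar.charP K
  haveI : Fact (Nat.Prime 2) := ⟨Nat.prime_two⟩
  refine ⟨iterateFrobenius K 2 2, fun x => by rw [iterateFrobenius_def]; norm_num, fun a => ?_⟩
  rw [iterateFrobenius_def, ← map_pow]
  congr 1
  have := FiniteField.pow_card a
  rwa [hF] at this

/-- An element of order prime to the order of the multiplicative group of the field with `4 ^ 9` elements which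
commutes with a matrix of order nineteen, and more generally one with `r` meeting it at most in three, is
scalar. -/
theorem scalar_of_commute (hF : Fintype.card F = 4) {M D : Matrix F9 F9 F} (hM : M ^ 19 = 1) (hM1 : M ≠ 1)
    (hMD : M * D = D * M) {r : ℕ} (hr : D ^ r = 1) (hg : Nat.gcd r 262143 ∣ 3) :
    ∃ d : F, D = d • 1 ∧ d ^ r = 1 ∧ d ^ 3 = 1 := by
  classical
  set K := AlgebraicClosure F
  set φ := algebraMap F K
  have h2 : (2 : K) = 0 := by rw [← map_ofNat φ 2, two_eq_zero hF, map_zero]
  obtain ⟨σ, hσ, hσF⟩ := exists_frob hF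
  let f : Module.End K (F9 → K) := Matrix.toLinAlgEquiv' (M.map φ)
  let g : Module.End K (F9 → K) := Matrix.toLinAlgEquiv' (D.map φ)
  have hinj : Function.Injective fun A : Matrix F9 F9 F =>
      (Matrix.toLinAlgEquiv' (A.map φ) : Module.End K (F9 → K)) := fun A B e =>
    Matrix.map_injective φ.injective (Matrix.toLinAlgEquiv'.injective e)
  have hf19 : f ^ 19 = 1 := by
    show Matrix.toLinAlgEquiv' (φ.mapMatrix M) ^ 19 = _
    rw [← map_pow, ← map_pow, hM, map_one, map_one]
  have hgr : g ^ r = 1 := by
    show Matrix.toLinAlgEquiv' (φ.mapMatrix D) ^ r = _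
    rw [← map_pow, ← map_pow, hr, map_one, map_one]
  have hfg : f * g = g * f := by
    show Matrix.toLinAlgEquiv' (φ.mapMatrix M) * Matrix.toLinAlgEquiv' (φ.mapMatrix D) = _
    rw [← map_mul, ← map_mul, hMD, map_mul, map_mul]
    rfl
  have hf1 : f ≠ 1 := fun e => hM1 (hinj (by
    show f = Matrix.toLinAlgEquiv' (φ.mapMatrix (1 : Matrix F9 F9 F))
    rw [e, map_one, map_one]))
  obtain ⟨ζ, v, hv, hfv, hζ, hζ1⟩ := exists_eigen h2 (p := 19) (by decide) hf19 hf1
  -- the conjugate eigenvectors
  have hcomm : ∀ (A : Matrix F9 F9 F) (w : F9 → K),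
      (σ ∘ (Matrix.toLinAlgEquiv' (A.map φ) w)) = Matrix.toLinAlgEquiv' (A.map φ) (σ ∘ w) := by
    intro A w
    funext i
    simp only [Function.comp_apply, Matrix.toLinAlgEquiv'_apply]
    rw [RingHom.map_mulVec, Matrix.map_map]
    congr 2
    ext a
    exact hσF a
  let vec : ℕ → F9 → K := fun i => (fun w => σ ∘ w)^[i] v
  have hvec : ∀ (A : Matrix F9 F9 F) (c : K), Matrix.toLinAlgEquiv' (A.map φ) v = c • v →
      ∀ i, Matrix.toLinAlgEquiv' (A.map φ) (vec i) = c ^ 4 ^ i • vec i := by
    intro A c hc i
    induction i with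
    | zero => simpa [vec] using hc
    | succ i ih =>
      have e : vec (i + 1) = σ ∘ vec i := by simp only [vec, Function.iterate_succ_apply']
      rw [e, ← hcomm, ih]
      funext z
      simp only [Function.comp_apply, Pi.smul_apply, smul_eq_mul, hσ, mul_pow, ← pow_mul, pow_succ 4 i]
  have hvec0 : ∀ i, vec i ≠ 0 := by
    intro i
    induction i with
    | zero => exact hv
    | succ i ih =>
      intro e
      refine ih (funext fun z => ?_)
      have := congrFun e z
      simpa [vec, Function.iterate_succ_apply', hσ] using this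
  haveI : Fact (Nat.Prime 19) := ⟨by norm_num⟩
  have hord : orderOf ζ = 19 := orderOf_eq_prime hζ hζ1
  let μ : Fin 9 → K := fun i => ζ ^ 4 ^ (i : ℕ)
  have hμ : Function.Injective μ := by
    intro i j e
    have := (IsOfFinOrder.pow_eq_pow_iff_modEq (isOfFinOrder_iff_pow_eq_one.2 ⟨_, by norm_num, hζ⟩)).1 e
    rw [hord] at this
    have key : ∀ i j : Fin 9, 4 ^ (i : ℕ) ≡ 4 ^ (j : ℕ) [MOD 19] → i = j := by decide +kernel
    exact key i j this
  have hli : LinearIndependent K fun i : Fin 9 => vec i :=
    Module.End.eigenvectors_linearIndependent' f μ hμ _ fun i =>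
      ⟨Module.End.mem_eigenspace_iff.2 (hvec M ζ hfv i), hvec0 i⟩
  have hdim : Fintype.card (Fin 9) = Module.finrank K (F9 → K) := by simp
  let b := basisOfLinearIndependentOfCardEqFinrank hli hdim
  have hb : ∀ i, b i = vec i := fun i => by simp [b]
  -- the eigenspace of `ζ` is a line
  have heig : ∀ w, f w = ζ • w → ∃ c : K, w = c • v := by
    intro w hw
    refine ⟨b.repr w 0, ?_⟩
    have e : ∀ i, (μ i - ζ) * b.repr w i = 0 := by
      intro i
      have h1 : f w = ∑ j, (b.repr w j * μ j) • b j := by
        conv_lhs => rw [← b.sum_repr w]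
        rw [map_sum]
        refine Finset.sum_congr rfl fun j _ => ?_
        rw [map_smul, hb, hvec M ζ hfv, smul_smul]
      have h3 := congrArg (fun u => b.repr u i) (h1.symm.trans hw)
      simp only [b.repr_sum_self, map_smul, Finsupp.coe_smul, Pi.smul_apply, smul_eq_mul] at h3
      linear_combination h3
    conv_lhs => rw [← b.sum_repr w]
    rw [Finset.sum_eq_single 0 (fun i _ hi => ?_) (by simp), hb]
    · rfl
    · rcases mul_eq_zero.1 (e i) with h0 | h0
      · refine absurd (hμ ?_) hi
        rw [sub_eq_zero.1 h0]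
        simp [μ]
      · rw [h0, zero_smul]
  obtain ⟨l, hl⟩ := heig (g v) (by rw [← Module.End.mul_apply, hfg, Module.End.mul_apply, hfv, map_smul])
  have hlr : l ^ r = 1 := by
    have hk : ∀ k, (g ^ k) v = l ^ k • v := by
      intro k
      induction k with
      | zero => simp
      | succ k ih => rw [pow_succ', Module.End.mul_apply, ih, map_smul, hl, smul_smul, pow_succ]
    have e := hk r
    rw [hgr, Module.End.one_apply] at e
    exact smul_left_injective K hv (by simp only [one_smul]; exact e.symm)
  obtain ⟨c, hc⟩ := heig (vec 9) (by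
    rw [show f (vec 9) = ζ ^ 4 ^ 9 • vec 9 from hvec M ζ hfv 9, ← pow_mod_orderOf ζ (4 ^ 9), hord]
    norm_num)
  have hl9 : l ^ 4 ^ 9 = l := by
    have e : g (vec 9) = l ^ 4 ^ 9 • vec 9 := hvec D l hl 9
    have e' : g (vec 9) = l • vec 9 := by rw [hc, map_smul, hl, smul_comm]
    exact smul_left_injective K (hvec0 9) (e.symm.trans e')
  have hr0 : l ≠ 0 := fun e => by
    have h0 := hl
    rw [e, zero_smul] at h0
    have hk : (g ^ r) v = v := by rw [hgr, Module.End.one_apply]
    rcases r with _ | r
    · norm_num at hg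
    · rw [pow_succ, Module.End.mul_apply, h0, map_zero] at hk
      exact hv hk.symm
  have hl3 : l ^ 3 = 1 := by
    have h1 : l ^ 262143 = 1 := by
      have : l ^ 262143 * l = 1 * l := by rw [← pow_succ, one_mul]; exact hl9
      exact mul_right_cancel₀ hr0 this
    obtain ⟨k, hk⟩ := hg
    rw [hk, pow_mul, pow_gcd_eq_one.2 ⟨hlr, h1⟩, one_pow]
  have hl4 : ∀ i, l ^ 4 ^ i = l := by
    intro i
    induction i with
    | zero => simp
    | succ i ih => rw [pow_succ, pow_mul, ih, pow_succ, hl3, one_mul]
  have hgl : g = l • 1 := b.ext fun i => by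
    rw [hb, show g (vec i) = l ^ 4 ^ (i : ℕ) • vec i from hvec D l hl i, hl4]
    rfl
  have hDl : D.map φ = l • (1 : Matrix F9 F9 K) := by
    apply Matrix.toLinAlgEquiv'.injective
    rw [map_smul, map_one]
    exact hgl
  have e00 : φ (D 0 0) = l := by
    have := congrFun (congrFun hDl 0) 0
    simpa using this
  refine ⟨D 0 0, ?_, φ.injective (by rw [map_pow, e00, hlr, map_one]),
    φ.injective (by rw [map_pow, e00, hl3, map_one])⟩
  ext i j
  apply φ.injective
  have := congrFun (congrFun hDl i) j
  rw [Matrix.map_apply] at this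
  rw [this, ← e00]
  simp [Matrix.one_apply, apply_ite φ]

/-- The normaliser of a matrix of order seventeen does not induce an automorphism of order sixteen. -/
theorem no_six (hF : Fintype.card F = 4) {M D E : Matrix F9 F9 F} (hM : M ^ 17 = 1) (hM1 : M ≠ 1)
    (hDE : E * D = 1) (hMD : M * D = D * M ^ 6) : False := by
  classical
  set K := AlgebraicClosure F
  set φ := algebraMap F K
  have h2 : (2 : K) = 0 := by rw [← map_ofNat φ 2, two_eq_zero hF, map_zero]
  let f : Module.End K (F9 → K) := Matrix.toLinAlgEquiv' (φ.mapMatrix M)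
  let g : Module.End K (F9 → K) := Matrix.toLinAlgEquiv' (φ.mapMatrix D)
  have hf17 : f ^ 17 = 1 := by
    show Matrix.toLinAlgEquiv' (φ.mapMatrix M) ^ 17 = _
    rw [← map_pow, ← map_pow, hM, map_one, map_one]
  have hfg : f * g = g * f ^ 6 := by
    show Matrix.toLinAlgEquiv' (φ.mapMatrix M) * Matrix.toLinAlgEquiv' (φ.mapMatrix D) = _
    rw [← map_mul, ← map_mul, hMD, map_mul, map_mul, map_pow, map_pow]
  have hg : Function.Injective g := by
    refine Function.LeftInverse.injective (g := (Matrix.toLinAlgEquiv' (φ.mapMatrix E) : Module.End K (F9 → K))) ?_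
    intro w
    show ((Matrix.toLinAlgEquiv' (φ.mapMatrix E) : Module.End K (F9 → K)) * g) w = w
    rw [show g = Matrix.toLinAlgEquiv' (φ.mapMatrix D) from rfl, ← map_mul, ← map_mul, hDE, map_one, map_one]
    rfl
  have hf1 : f ≠ 1 := fun e => hM1 (Matrix.map_injective φ.injective (Matrix.toLinAlgEquiv'.injective (by
    show f = Matrix.toLinAlgEquiv' (φ.mapMatrix (1 : Matrix F9 F9 F))
    rw [e, map_one, map_one])))
  obtain ⟨ζ, v, hv, hfv, hζ, hζ1⟩ := exists_eigen h2 (p := 17) (by decide) hf17 hf1
  have hpow : ∀ (c : K) (w : F9 → K), f w = c • w → ∀ k : ℕ, (f ^ k) w = c ^ k • w := by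
    intro c w hw k
    induction k with
    | zero => simp
    | succ k ih => rw [pow_succ', Module.End.mul_apply, ih, map_smul, hw, smul_smul, pow_succ]
  have hvec : ∀ k : ℕ, f ((g ^ k) v) = ζ ^ 6 ^ k • (g ^ k) v := by
    intro k
    induction k with
    | zero => simpa using hfv
    | succ k ih =>
      rw [pow_succ', Module.End.mul_apply, ← Module.End.mul_apply f g, hfg, Module.End.mul_apply,
        hpow _ _ ih, map_smul, ← pow_mul, pow_succ]
  haveI : Fact (Nat.Prime 17) := ⟨by norm_num⟩
  have hord : orderOf ζ = 17 := orderOf_eq_prime hζ hζ1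
  let μ : Fin 10 → K := fun i => ζ ^ 6 ^ (i : ℕ)
  have hμ : Function.Injective μ := by
    intro i j e
    have := (IsOfFinOrder.pow_eq_pow_iff_modEq (isOfFinOrder_iff_pow_eq_one.2 ⟨_, by norm_num, hζ⟩)).1 e
    rw [hord] at this
    have key : ∀ i j : Fin 10, 6 ^ (i : ℕ) ≡ 6 ^ (j : ℕ) [MOD 17] → i = j := by decide +kernel
    exact key i j this
  have hli : LinearIndependent K fun i : Fin 10 => (g ^ (i : ℕ)) v :=
    Module.End.eigenvectors_linearIndependent' f μ hμ _ fun i =>
      ⟨Module.End.mem_eigenspace_iff.2 (hvec i), fun e => hv (by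
        rw [Module.End.coe_pow] at e
        exact (hg.iterate i) (e.trans (by
          induction (i : ℕ) with
          | zero => rfl
          | succ n ih => rw [Function.iterate_succ_apply, map_zero, ← ih])))⟩
  have := hli.fintype_card_le_finrank
  simp at this

end Cfsg.Agent.Lib.J3.ModelLocal
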