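import Cfsg.Agent.Lib.J3.Order
import Cfsg.Agent.Lib.J3.Simple

/-!
No element of the triple cover of the third Janko group has a nontrivial scalar as its cube.
-/

set_option autoImplicit false
set_option linter.style.haveILetI false

namespace Cfsg.Agent.Lib.J3.ModelLocal

open Cfsg.Spor
open scoped MatrixGroups

theorem threeList_cube : ∀ i < 729,
    (Nat.beq (cube (getM threeList i)) (scal 1) || Nat.beq (cube (getM threeList i)) (scal 2)) = false := by
  have h : ((List.range 729).all fun i =>
      !(Nat.beq (cube (getM threeList i)) (scal 1) || Nat.beq (cube (getM threeList i)) (scal 2))) = true := by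
    decide +kernel
  intro i hi
  have := all_range h hi
  simpa using this

theorem scal_lt : scal 1 < 2 ^ 162 ∧ scal 2 < 2 ^ 162 := ⟨getM_lt _ _, mul_lt (hg 0) (hg 0)⟩

variable {F : Type*} [Field F] [Finite F] {ω : F}

/-- The listed elements form a Sylow subgroup. -/
theorem exists_sylow_list (h : Fld F ω) :
    ∃ P : Sylow 3 (threeJ3 F ω), ∀ x ∈ (P : Subgroup (threeJ3 F ω)),
      ∃ i < 729, InG ω (getM threeList i) ∧ x = el ω (getM threeList i) := by
  haveI : Fact (Nat.Prime 3) := ⟨Nat.prime_three⟩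
  have e := sylowThree_eq
  simp only [sylowOk, Bool.and_eq_true] at e
  obtain ⟨⟨⟨⟨⟨e0, eg⟩, ep⟩, ea⟩, es⟩, ei⟩ := e
  have hg' : ∀ g < 6, InG ω (dval (tab 31 threeGens g)) := fun g hg' => (h.dval_spec (all_range eg hg')).1
  set K := Subgroup.closure (Set.range fun g : Fin 6 => el ω (dval (tab 31 threeGens g))) with hK
  have hl : ∀ i, i < 729 → InSub K (getM threeList i) := by
    intro i
    induction i using Nat.strong_induction_on with
    | _ i ih =>
      intro hi
      rcases i with _ | i
      · rw [Nat.eq_of_beq_eq_true e0]; exact h.inSub_idM _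
      · have c := all_range ep (show i < 729 - 1 by omega)
        simp only [Bool.and_eq_true] at c
        obtain ⟨⟨c1, c2⟩, c3⟩ := c
        rw [Nat.eq_of_beq_eq_true c3]
        exact h.inSub_mul ⟨hg' _ (blt_lt c2), Subgroup.subset_closure ⟨⟨_, blt_lt c2⟩, rfl⟩⟩
          (ih _ (blt_lt c1) ((blt_lt c1).trans_le hi.le))
  have hsurj : ∀ x ∈ K, ∃ i < 729, x = el ω (getM threeList i) := by
    refine closure_subset_left (S := {x | ∃ i < 729, x = el ω (getM threeList i)})
      ⟨0, by norm_num, by rw [Nat.eq_of_beq_eq_true e0, h.el_idM]⟩ ?_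
    rintro _ ⟨g, rfl⟩ _ ⟨i, hi, rfl⟩
    have c := all_range (all_range ea g.2) hi
    rw [Bool.and_eq_true] at c
    exact ⟨_, blt_lt c.1, by rw [← Nat.eq_of_beq_eq_true c.2, h.el_mul (hg' _ g.2) (hl i hi).1]⟩
  have hmono : ∀ b, b < 729 → ∀ a < b,
      getM threeList (tab 10 threeSort a) < getM threeList (tab 10 threeSort b) := by
    intro b
    induction b with
    | zero => intro _ a ha; omega
    | succ b ih =>
      intro hb a ha
      have c : getM threeList (tab 10 threeSort b) < getM threeList (tab 10 threeSort (b + 1)) :=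
        blt_lt (all_range ei (show b < 729 - 1 by omega))
      rcases Nat.lt_succ_iff_lt_or_eq.1 ha with ha | rfl
      · exact (ih (by omega) a ha).trans c
      · exact c
  have hs : ∀ a : Fin 729, tab 10 threeSort a < 729 := fun a => blt_lt (all_range es a.2)
  have hinj : Function.Injective fun a : Fin 729 =>
      (⟨el ω (getM threeList (tab 10 threeSort a)), (hl _ (hs a)).2⟩ : K) := by
    intro a b hab
    have e := h.el_inj (hl _ (hs a)).1 (hl _ (hs b)).1 (getM_lt _ _) (getM_lt _ _) (congrArg Subtype.val hab)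
    rcases lt_trichotomy a.val b.val with hlt | heq | hlt
    · exact absurd e (hmono _ b.2 _ hlt).ne
    · exact Fin.ext heq
    · exact absurd e (hmono _ a.2 _ hlt).ne'
  have hge : 729 ≤ Nat.card K := by simpa using Nat.card_le_card_of_injective _ hinj
  have hle : Nat.card K ≤ 729 := by
    choose f hf hf' using fun x : K => hsurj x x.2
    simpa using Nat.card_le_card_of_injective (fun x => (⟨f x, hf x⟩ : Fin 729)) fun x y hxy =>
      Subtype.ext (by rw [hf' x, hf' y, show f x = f y from congrArg Fin.val hxy])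
  refine ⟨Sylow.ofCard K ?_, fun x hx => ?_⟩
  · rw [le_antisymm hle hge, h.card_threeJ3, show 150698880 = 3 ^ 6 * 206720 by norm_num,
      Nat.factorization_mul (by norm_num) (by norm_num), Finsupp.add_apply,
      Nat.Prime.factorization_pow Nat.prime_three, Finsupp.single_eq_same,
      Nat.factorization_eq_zero_of_not_dvd (by norm_num : ¬ 3 ∣ 206720)]
    norm_num
  · obtain ⟨i, hi, rfl⟩ := hsurj x hx
    exact ⟨i, hi, (hl i hi).1, rfl⟩

/-- An element whose cube is central has cube one. -/
theorem cube_eq_one (h : Fld F ω) {d : threeJ3 F ω} (hd : d ^ 3 ∈ Subgroup.center (threeJ3 F ω)) :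
    d ^ 3 = 1 := by
  haveI : Fact (Nat.Prime 3) := ⟨Nat.prime_three⟩
  by_contra hne
  have hd9 : d ^ 9 = 1 := by
    have := pow_card_eq_one' (x := (⟨d ^ 3, hd⟩ : Subgroup.center (threeJ3 F ω)))
    rw [h.card_center] at this
    have := congrArg Subtype.val this
    simpa [← pow_mul] using this
  obtain ⟨P, hP⟩ := exists_sylow_list h
  have hp : IsPGroup 3 (Subgroup.zpowers d) := by
    obtain ⟨k, -, hk⟩ := (Nat.dvd_prime_pow Nat.prime_three).1 (orderOf_dvd_of_pow_eq_one (n := 3 ^ 2) (by simpa using hd9))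
    exact IsPGroup.of_card (n := k) (by rw [Nat.card_zpowers, hk])
  obtain ⟨Q, hQ⟩ := hp.exists_le_sylow
  obtain ⟨g, hgQ⟩ := MulAction.exists_smul_eq (threeJ3 F ω) Q P
  have hmem : g * d * g⁻¹ ∈ (P : Subgroup (threeJ3 F ω)) := by
    rw [← hgQ]
    exact ⟨d, hQ (Subgroup.mem_zpowers d), rfl⟩
  obtain ⟨i, hi, hG, e⟩ := hP _ hmem
  have e3 : el ω (cube (getM threeList i)) = d ^ 3 := by
    rw [h.el_cube hG, ← e, conj_pow]
    rw [Subgroup.mem_center_iff.1 hd g, mul_inv_cancel_right]
  obtain ⟨m, hm⟩ : ∃ m : ℕ, scalGen ω ^ m = d ^ 3 := by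
    have := hd
    rw [h.center_eq] at this
    exact (mem_powers_iff_mem_zpowers.2 this)
  have hk := threeList_cube i hi
  simp only [Bool.or_eq_false_iff] at hk
  have hI := h.inG_mul h.inG_omega h.inG_omega
  have hm3 : m % 3 = 1 ∨ m % 3 = 2 := by
    by_contra hh
    have : m % 3 = 0 := by omega
    rw [← Nat.div_add_mod m 3, this, add_zero, pow_mul, h.scalGen_cube, one_pow] at hm
    exact hne hm.symm
  rw [← Nat.div_add_mod m 3, pow_add, pow_mul, h.scalGen_cube, one_pow, one_mul] at hm
  have hc : InG ω (cube (getM threeList i)) := h.inG_mul (h.inG_mul hG hG) hG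
  rcases hm3 with hm3 | hm3 <;> rw [hm3] at hm
  · have := h.el_inj hc (h.inG_scal 1) (mul_lt _ _) scal_lt.1 (by
      rw [e3, ← hm, pow_one]; rfl)
    rw [this, Nat.beq_refl] at hk
    exact absurd hk.1 (by simp)
  · have := h.el_inj hc (h.inG_scal 2) (mul_lt _ _) scal_lt.2 (by
      rw [e3, ← hm, pow_two, show scal 2 = mul (hg 0) (hg 0) from rfl, h.el_mul h.inG_omega h.inG_omega]; rfl)
    rw [this, Nat.beq_refl] at hk
    exact absurd hk.2 (by simp)

end Cfsg.Agent.Lib.J3.ModelLocal
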