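import Cfsg.Agent.Lib.J3.CentComp
import Cfsg.Agent.Lib.J3.ModelLocal.Spectral
import Cfsg.Agent.Lib.J3.ModelLocal.Three

/-!
Centralisers and normalisers of the Sylow subgroups for nineteen and seventeen in the third Janko group.
-/

set_option autoImplicit false
set_option linter.style.haveILetI false

namespace Cfsg.Agent.Lib.J3.ModelLocal

open Cfsg.Spor Subgroup Cfsg.Agent.Lib.J3.Cent
open scoped MatrixGroups

variable {F : Type*} [Field F] [Fintype F] {ω : F}

/-- The projection on the simple group. -/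
abbrev proj (ω : F) : threeJ3 F ω →* J3 F ω := QuotientGroup.mk' (center (threeJ3 F ω))

/-- The matrix of an element. -/
def matHom (ω : F) : threeJ3 F ω →* Matrix F9 F9 F :=
  (Units.coeHom _).comp (threeJ3 F ω).subtype

theorem matHom_injective : Function.Injective (matHom (F := F) ω) := fun _ _ e =>
  Subtype.ext (Units.ext e)

theorem central_cube (h : Fld F ω) {z : threeJ3 F ω} (hz : z ∈ center (threeJ3 F ω)) : z ^ 3 = 1 := by
  have := pow_card_eq_one' (x := (⟨z, hz⟩ : center (threeJ3 F ω)))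
  rw [h.card_center] at this
  exact congrArg Subtype.val this

/-- A lift of the same order. -/
theorem exists_lift (h : Fld F ω) {x : J3 F ω} {p : ℕ} (hp : p.Prime) (hp3 : p ≠ 3) (hx : orderOf x = p) :
    ∃ y : threeJ3 F ω, y ^ p = 1 ∧ y ≠ 1 ∧ proj ω y = x := by
  obtain ⟨y0, rfl⟩ := QuotientGroup.mk'_surjective (center (threeJ3 F ω)) x
  have hz : (y0 ^ p) ^ 3 = 1 := central_cube h (by
    rw [← QuotientGroup.eq_one_iff, ← QuotientGroup.mk'_apply, map_pow, ← hx]
    exact pow_orderOf_eq_one _)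
  obtain ⟨a, ha⟩ : ∃ a, 3 * a % p = 1 := by
    obtain ⟨m, hm⟩ := Nat.exists_mul_mod_eq_one_of_coprime
      (show Nat.Coprime 3 p from (Nat.coprime_primes Nat.prime_three hp).2 (Ne.symm hp3)) hp.one_lt
    exact ⟨m, hm.2⟩
  have hy : proj ω (y0 ^ (3 * a)) = proj ω y0 := by
    rw [map_pow, ← pow_mod_orderOf, hx, ha, pow_one]
  refine ⟨y0 ^ (3 * a), ?_, fun e => ?_, hy⟩
  · rw [← pow_mul, show 3 * a * p = p * 3 * a by ring, pow_mul, pow_mul, hz, one_pow]
  · rw [e, map_one] at hy
    rw [show orderOf (proj ω y0) = 1 by rw [← hy, orderOf_one]] at hx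
    exact hp.one_lt.ne hx

/-- A relation with a power lifts. -/
theorem lift_conj (h : Fld F ω) {y d : threeJ3 F ω} {p k : ℕ} (hp : p.Prime) (hp3 : p ≠ 3) (hy : y ^ p = 1)
    (e : proj ω d * proj ω y * (proj ω d)⁻¹ = proj ω y ^ k) : d * y * d⁻¹ = y ^ k := by
  have hz : d * y * d⁻¹ * (y ^ k)⁻¹ ∈ center (threeJ3 F ω) := by
    rw [← QuotientGroup.eq_one_iff, ← QuotientGroup.mk'_apply]
    simp only [map_mul, map_inv, map_pow]
    rw [show (QuotientGroup.mk' _) d * (QuotientGroup.mk' _) y * ((QuotientGroup.mk' _) d)⁻¹ =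
      proj ω y ^ k from e, mul_inv_cancel]
  set z := d * y * d⁻¹ * (y ^ k)⁻¹ with hzdef
  have hzc : Commute z (y ^ k) := (mem_center_iff.1 hz (y ^ k)).symm
  have hzy : z * y ^ k = d * y * d⁻¹ := by rw [hzdef, inv_mul_cancel_right]
  have hzp : z ^ p = 1 := by
    have : (z * y ^ k) ^ p = 1 := by rw [hzy, conj_pow, hy]; group
    rwa [hzc.mul_pow, ← pow_mul, mul_comm k, pow_mul, hy, one_pow, mul_one] at this
  have h1 : z = 1 := by
    have := pow_gcd_eq_one.2 ⟨hzp, central_cube h hz⟩
    rwa [show Nat.gcd p 3 = 1 from (Nat.coprime_primes hp Nat.prime_three).2 hp3, pow_one] at this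
  rw [← hzy, h1, one_mul]

/-- The centraliser of an involution has order 1920. -/
theorem card_cent_two (h : Fld F ω) {x : J3 F ω} (hx : orderOf x = 2) :
    Nat.card (centralizer ({x} : Set (J3 F ω))) = 1920 := by
  obtain ⟨c, rfl⟩ := isConj_iff.1 (conj_zJ h x hx)
  rw [← card_CJ h]
  refine Eq.trans ?_ (Nat.card_congr ((MulAut.conj c).subgroupMap (CJ ω)).toEquiv).symm
  refine congrArg (fun S : Subgroup (J3 F ω) => Nat.card S) (Subgroup.ext fun g => ?_)
  refine ⟨fun hg => ⟨c⁻¹ * g * c, mem_centralizer_singleton_iff.2 ?_, by simp [mul_assoc]⟩, ?_⟩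
  · have := mem_centralizer_singleton_iff.1 hg
    calc c⁻¹ * g * c * zJ ω = c⁻¹ * (g * (c * zJ ω * c⁻¹)) * c := by group
      _ = c⁻¹ * (c * zJ ω * c⁻¹ * g) * c := by rw [this]
      _ = _ := by group
  · rintro ⟨g, hg, rfl⟩
    have := mem_centralizer_singleton_iff.1 hg
    refine mem_centralizer_singleton_iff.2 ?_
    show c * g * c⁻¹ * (c * zJ ω * c⁻¹) = c * zJ ω * c⁻¹ * (c * g * c⁻¹)
    calc c * g * c⁻¹ * (c * zJ ω * c⁻¹) = c * (g * zJ ω) * c⁻¹ := by group
      _ = _ := by rw [this]; group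

/-- The centraliser of an element of order nineteen. -/
theorem card_cent_nineteen (hF : Fintype.card F = 4) (h : Fld F ω) {x : J3 F ω} (hx : orderOf x = 19) :
    Nat.card (centralizer ({x} : Set (J3 F ω))) = 19 := by
  obtain ⟨y, hy, hy1, rfl⟩ := exists_lift h (by norm_num) (by norm_num) hx
  have hM : matHom ω y ^ 19 = 1 := by rw [← map_pow, hy, map_one]
  have hM1 : matHom ω y ≠ 1 := fun e => hy1 (matHom_injective (e.trans (map_one _).symm))
  have hd : Nat.card (centralizer ({proj ω y} : Set (J3 F ω))) ∣ 50232960 :=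
    h.card_J3 ▸ card_subgroup_dvd_card _
  have h19 : 19 ∣ Nat.card (centralizer ({proj ω y} : Set (J3 F ω))) := by
    rw [← hx]
    exact Subgroup.orderOf_dvd_natCard _ (mem_centralizer_singleton_iff.2 rfl)
  have hno : ∀ r ∈ ({2, 3, 5, 17} : Finset ℕ),
      ¬ r ∣ Nat.card (centralizer ({proj ω y} : Set (J3 F ω))) := by
    intro r hr hdvd
    have hrp : r.Prime := by fin_cases hr <;> norm_num
    haveI := Fact.mk hrp
    obtain ⟨c, hc⟩ := exists_prime_orderOf_dvd_card' r hdvd
    obtain ⟨d0, hd0⟩ := QuotientGroup.mk'_surjective (center (threeJ3 F ω)) (c : J3 F ω)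
    have hcomm0 : d0 * y * d0⁻¹ = y ^ 1 := lift_conj h (by norm_num) (by norm_num) hy (by
      rw [pow_one, hd0, mem_centralizer_singleton_iff.1 c.2, mul_inv_cancel_right])
    have hcm : matHom ω y * matHom ω d0 = matHom ω d0 * matHom ω y := by
      rw [pow_one, mul_inv_eq_iff_eq_mul] at hcomm0
      rw [← map_mul, ← map_mul, hcomm0]
    have hc1 : (c : J3 F ω) ≠ 1 := fun e => by
      rw [← Subgroup.orderOf_coe, e, orderOf_one] at hc
      exact hrp.one_lt.ne hc
    have hz : d0 ^ r ∈ center (threeJ3 F ω) := by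
      rw [← QuotientGroup.eq_one_iff, ← QuotientGroup.mk'_apply, map_pow, hd0, ← hc,
        Subgroup.orderOf_coe c |>.symm, pow_orderOf_eq_one]
    -- a scalar lift is trivial
    have scal : ∀ (d : threeJ3 F ω) (a : F), matHom ω d = a • 1 → proj ω d = 1 := fun d a e => by
      rw [QuotientGroup.mk'_apply, QuotientGroup.eq_one_iff, mem_center_iff]
      intro g
      apply matHom_injective
      rw [map_mul, map_mul, e]
      simp
    by_cases hr3 : r = 3
    · subst hr3
      obtain ⟨a, ha, -⟩ := scalar_of_commute hF hM hM1 hcm (r := 3)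
        (by rw [← map_pow, cube_eq_one h hz, map_one]) (by norm_num)
      exact hc1 (hd0 ▸ scal d0 a ha)
    · have hgc : Nat.gcd r 262143 ∣ 3 := by fin_cases hr <;> first | exact absurd rfl hr3 | norm_num
      obtain ⟨a, ha, -, ha3⟩ := scalar_of_commute hF hM hM1 (D := matHom ω (d0 ^ 3))
        (by rw [map_pow]; exact Commute.pow_right hcm 3) (r := r)
        (by rw [← map_pow, ← pow_mul, mul_comm, pow_mul, central_cube h hz, map_one]) hgc
      have e1 := scal _ a ha
      rw [map_pow, show proj ω d0 = (c : J3 F ω) from hd0] at e1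
      have := orderOf_dvd_of_pow_eq_one e1
      rw [Subgroup.orderOf_coe, hc, Nat.prime_dvd_prime_iff_eq hrp Nat.prime_three] at this
      exact hr3 this
  have key : ∀ c ∈ Nat.divisors 50232960,
      19 ∣ c → ¬ 2 ∣ c → ¬ 3 ∣ c → ¬ 5 ∣ c → ¬ 17 ∣ c → c = 19 := by
    intro c hc h19 h2 h3 h5 h17
    have hcd := Nat.dvd_of_mem_divisors hc
    refine Nat.dvd_antisymm ?_ h19
    have c128 : Nat.Coprime c (2 ^ 7) := ((Nat.Prime.coprime_iff_not_dvd Nat.prime_two).2 h2).symm.pow_right _
    have c243 : Nat.Coprime c (3 ^ 5) := ((Nat.Prime.coprime_iff_not_dvd Nat.prime_three).2 h3).symm.pow_right _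
    have c5 : Nat.Coprime c 5 := ((Nat.Prime.coprime_iff_not_dvd Nat.prime_five).2 h5).symm
    have c17 : Nat.Coprime c 17 := ((Nat.Prime.coprime_iff_not_dvd (by norm_num)).2 h17).symm
    exact (((c128.mul_right c243).mul_right c5).mul_right c17).dvd_of_dvd_mul_left
      (by norm_num; exact hcd)
  exact key _ (Nat.mem_divisors.2 ⟨hd, by norm_num⟩) h19 (hno 2 (by decide)) (hno 3 (by decide))
    (hno 5 (by decide)) (hno 17 (by decide))

/-- Facts on the normaliser of a subgroup of prime order which is its own centraliser class. -/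
theorem norm_data {G : Type*} [Group G] [Finite G] (p : ℕ) [hp : Fact p.Prime] (X : Sylow p G)
    (hX : Nat.card (X : Subgroup G) = p) :
    ∃ m, m ∣ p - 1 ∧
      Nat.card (normalizer ((X : Subgroup G) : Set G)) =
        Nat.card (centralizer ((X : Subgroup G) : Set G)) * m ∧
      (centralizer ((X : Subgroup G) : Set G) = X →
        ∃ _h : ((X : Subgroup G).subgroupOf (normalizer ((X : Subgroup G) : Set G))).Normal,
          IsCyclic (↥(normalizer ((X : Subgroup G) : Set G)) ⧸
            (X : Subgroup G).subgroupOf (normalizer ((X : Subgroup G) : Set G))) ∧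
          Nat.card (↥(normalizer ((X : Subgroup G) : Set G)) ⧸
            (X : Subgroup G).subgroupOf (normalizer ((X : Subgroup G) : Set G))) = m) := by
  haveI : IsCyclic (X : Subgroup G) := isCyclic_of_prime_card hX
  set φ := (X : Subgroup G).normalizerMonoidHom
  haveI hcy : IsCyclic (MulAut (X : Subgroup G)) :=
    isCyclic_of_surjective (IsCyclic.mulAutMulEquiv (X : Subgroup G)).symm.toMonoidHom
      (MulEquiv.surjective _) (hH := by rw [hX]; infer_instance)
  refine ⟨Nat.card φ.range, ?_, ?_, ?_⟩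
  · have := card_subgroup_dvd_card φ.range
    rwa [IsCyclic.card_mulAut, hX, Nat.totient_prime hp.out] at this
  · rw [← φ.ker.card_mul_index, index_ker, normalizerMonoidHom_ker]
    congr 1
    exact Nat.card_congr (subgroupOfEquivOfLe (centralizer_le_normalizer _)).toEquiv
  · intro hC
    have hk : φ.ker = (X : Subgroup G).subgroupOf (normalizer ((X : Subgroup G) : Set G)) := by
      rw [normalizerMonoidHom_ker, hC]
    haveI hn : ((X : Subgroup G).subgroupOf (normalizer ((X : Subgroup G) : Set G))).Normal := hk ▸ φ.normal_ker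
    refine ⟨hn, ?_⟩
    let e := (QuotientGroup.quotientMulEquivOfEq hk).symm.trans (QuotientGroup.quotientKerEquivRange φ)
    exact ⟨isCyclic_of_surjective e.symm.toMonoidHom e.symm.surjective, Nat.card_congr e.toEquiv⟩

theorem centralizer_zpowers {G : Type*} [Group G] (x : G) :
    centralizer ((zpowers x : Subgroup G) : Set G) = centralizer ({x} : Set G) := by
  rw [zpowers_eq_closure, centralizer_closure]

theorem sylow_card_prime (h : Fld F ω) (p : ℕ) [hp : Fact p.Prime] (hp' : p = 17 ∨ p = 19)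
    (X : Sylow p (J3 F ω)) : Nat.card (X : Subgroup (J3 F ω)) = p := by
  rw [X.card_eq_multiplicity, h.card_J3]
  rcases hp' with rfl | rfl
  · rw [show 50232960 = 17 * 2954880 by norm_num, Nat.factorization_mul (by norm_num) (by norm_num),
      Finsupp.add_apply, Nat.Prime.factorization_self hp.out,
      Nat.factorization_eq_zero_of_not_dvd (by norm_num : ¬ 17 ∣ 2954880), add_zero, pow_one]
  · rw [show 50232960 = 19 * 2643840 by norm_num, Nat.factorization_mul (by norm_num) (by norm_num),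
      Finsupp.add_apply, Nat.Prime.factorization_self hp.out,
      Nat.factorization_eq_zero_of_not_dvd (by norm_num : ¬ 19 ∣ 2643840), add_zero, pow_one]

theorem sylow_gen {G : Type*} [Group G] [Finite G] {p : ℕ} [hp : Fact p.Prime] (X : Sylow p G)
    (hX : Nat.card (X : Subgroup G) = p) : ∃ x, orderOf x = p ∧ (X : Subgroup G) = zpowers x := by
  obtain ⟨⟨x, hx⟩, hxo⟩ := exists_prime_orderOf_dvd_card' (G := (X : Subgroup G)) p (by rw [hX])
  rw [orderOf_mk] at hxo
  exact ⟨x, hxo, (eq_of_le_of_card_ge (zpowers_le.2 hx) (by rw [Nat.card_zpowers, hxo, hX])).symm⟩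

theorem nineteen (hF : Fintype.card F = 4) (h : Fld F ω) [Fact (Nat.Prime 19)] (X : Sylow 19 (J3 F ω)) :
    centralizer ((X : Subgroup (J3 F ω)) : Set (J3 F ω)) = X ∧
      ∃ _h : ((X : Subgroup (J3 F ω)).subgroupOf (normalizer ((X : Subgroup (J3 F ω)) : Set (J3 F ω)))).Normal,
        IsCyclic (↥(normalizer ((X : Subgroup (J3 F ω)) : Set (J3 F ω))) ⧸
          (X : Subgroup (J3 F ω)).subgroupOf (normalizer ((X : Subgroup (J3 F ω)) : Set (J3 F ω)))) ∧
        Nat.card (↥(normalizer ((X : Subgroup (J3 F ω)) : Set (J3 F ω))) ⧸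
          (X : Subgroup (J3 F ω)).subgroupOf (normalizer ((X : Subgroup (J3 F ω)) : Set (J3 F ω)))) = 9 := by
  have hX := sylow_card_prime h 19 (Or.inr rfl) X
  obtain ⟨x, hx, e⟩ := sylow_gen X hX
  have hC : centralizer ((X : Subgroup (J3 F ω)) : Set (J3 F ω)) = X := by
    rw [e, centralizer_zpowers]
    refine (eq_of_le_of_card_ge (zpowers_le.2 (mem_centralizer_singleton_iff.2 rfl)) ?_).symm
    rw [card_cent_nineteen hF h hx, Nat.card_zpowers, hx]
  obtain ⟨m, hm, hN, hq⟩ := norm_data 19 X hX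
  rw [hC, hX] at hN
  have hn : Nat.card (Sylow 19 (J3 F ω)) = (normalizer ((X : Subgroup (J3 F ω)) : Set (J3 F ω))).index :=
    X.card_eq_index_normalizer
  have hidx := (normalizer ((X : Subgroup (J3 F ω)) : Set (J3 F ω))).card_mul_index
  rw [hN, ← hn, h.card_J3] at hidx
  have hmod := card_sylow_modEq_one 19 (J3 F ω)
  have key : ∀ k ∈ Nat.divisors 18, 19 * k * (2643840 / k) = 50232960 ∧ 2643840 / k % 19 = 1 → k = 9 := by
    decide +kernel
  have hm0 : 0 < m := Nat.pos_of_ne_zero fun e0 => by simp [e0] at hidx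
  have hq' : Nat.card (Sylow 19 (J3 F ω)) = 2643840 / m :=
    (Nat.div_eq_of_eq_mul_right hm0 (by nlinarith)).symm
  have h9 := key m (Nat.mem_divisors.2 ⟨hm, by norm_num⟩) ⟨by rw [← hq']; exact hidx, by rw [← hq']; exact hmod⟩
  subst h9
  exact ⟨hC, hq hC⟩

theorem seventeen (hF : Fintype.card F = 4) (h : Fld F ω) [Fact (Nat.Prime 17)] (Y : Sylow 17 (J3 F ω)) :
    centralizer ((Y : Subgroup (J3 F ω)) : Set (J3 F ω)) = Y ∧
      ∃ _h : ((Y : Subgroup (J3 F ω)).subgroupOf (normalizer ((Y : Subgroup (J3 F ω)) : Set (J3 F ω)))).Normal,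
        IsCyclic (↥(normalizer ((Y : Subgroup (J3 F ω)) : Set (J3 F ω))) ⧸
          (Y : Subgroup (J3 F ω)).subgroupOf (normalizer ((Y : Subgroup (J3 F ω)) : Set (J3 F ω)))) ∧
        Nat.card (↥(normalizer ((Y : Subgroup (J3 F ω)) : Set (J3 F ω))) ⧸
          (Y : Subgroup (J3 F ω)).subgroupOf (normalizer ((Y : Subgroup (J3 F ω)) : Set (J3 F ω)))) = 8 := by
  haveI := h.isSimple
  have hY := sylow_card_prime h 17 (Or.inl rfl) Y
  obtain ⟨x, hx, e⟩ := sylow_gen Y hY
  obtain ⟨m, hm, hN, hq⟩ := norm_data 17 Y hY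
  obtain ⟨c, hc⟩ : ∃ c, c = Nat.card (centralizer ((Y : Subgroup (J3 F ω)) : Set (J3 F ω))) := ⟨_, rfl⟩
  rw [← hc] at hN
  have hcx : c = Nat.card (centralizer ({x} : Set (J3 F ω))) := by rw [hc, e, centralizer_zpowers]
  have h17 : 17 ∣ c := by
    rw [hcx, ← hx]
    exact Subgroup.orderOf_dvd_natCard _ (mem_centralizer_singleton_iff.2 rfl)
  have hcd : c ∣ 50232960 := by rw [hc, ← h.card_J3]; exact card_subgroup_dvd_card _
  have h2 : ¬ 2 ∣ c := fun hd => by
    haveI : Fact (Nat.Prime 2) := ⟨Nat.prime_two⟩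
    obtain ⟨⟨u, hu⟩, huo⟩ := exists_prime_orderOf_dvd_card' (G := centralizer ({x} : Set (J3 F ω))) 2 (hcx ▸ hd)
    rw [orderOf_mk] at huo
    have := Subgroup.orderOf_dvd_natCard (x := x) (centralizer ({u} : Set (J3 F ω)))
      (mem_centralizer_singleton_iff.2 (mem_centralizer_singleton_iff.1 hu).symm)
    rw [card_cent_two h huo, hx] at this
    norm_num at this
  have h19 : ¬ 19 ∣ c := fun hd => by
    haveI : Fact (Nat.Prime 19) := ⟨by norm_num⟩
    obtain ⟨⟨u, hu⟩, huo⟩ := exists_prime_orderOf_dvd_card' (G := centralizer ({x} : Set (J3 F ω))) 19 (hcx ▸ hd)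
    rw [orderOf_mk] at huo
    have := Subgroup.orderOf_dvd_natCard (x := x) (centralizer ({u} : Set (J3 F ω)))
      (mem_centralizer_singleton_iff.2 (mem_centralizer_singleton_iff.1 hu).symm)
    rw [card_cent_nineteen hF h huo, hx] at this
    norm_num at this
  have hidx := (normalizer ((Y : Subgroup (J3 F ω)) : Set (J3 F ω))).card_mul_index
  rw [hN, ← (show Nat.card (Sylow 17 (J3 F ω)) = (normalizer ((Y : Subgroup (J3 F ω)) : Set (J3 F ω))).index from
    Y.card_eq_index_normalizer), h.card_J3] at hidx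
  have hmod := card_sylow_modEq_one 17 (J3 F ω)
  -- no automorphism of order sixteen
  have hm16 : m ≠ 16 := by
    intro h16
    have hk : Nat.card (MulAut (Y : Subgroup (J3 F ω))) = 16 := by
      haveI : IsCyclic (Y : Subgroup (J3 F ω)) := isCyclic_of_prime_card hY
      rw [IsCyclic.card_mulAut, hY, Nat.totient_prime (by norm_num)]
    have hφ : (Y : Subgroup (J3 F ω)).normalizerMonoidHom.ker.index = 16 := by
      have h1 := (Y : Subgroup (J3 F ω)).normalizerMonoidHom.ker.card_mul_index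
      have hk' : Nat.card (Y : Subgroup (J3 F ω)).normalizerMonoidHom.ker = c := by
        rw [normalizerMonoidHom_ker, hc]
        exact Nat.card_congr (subgroupOfEquivOfLe (centralizer_le_normalizer _)).toEquiv
      rw [hN, h16, hk'] at h1
      exact Nat.eq_of_mul_eq_mul_left (hc ▸ Nat.card_pos) h1
    rw [index_ker] at hφ
    have htop : (Y : Subgroup (J3 F ω)).normalizerMonoidHom.range = ⊤ := eq_top_of_card_eq _ (hφ.trans hk.symm)
    haveI : IsMulCommutative (Y : Subgroup (J3 F ω)) := by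
      haveI : IsCyclic (Y : Subgroup (J3 F ω)) := isCyclic_of_prime_card hY
      infer_instance
    have hco : (Nat.card (Y : Subgroup (J3 F ω))).Coprime 3 := by rw [hY]; norm_num
    let α : MulAut (Y : Subgroup (J3 F ω)) :=
      { powCoprime hco with map_mul' := fun a b => (Commute.mul_pow (mul_comm' a b) 3) }
    obtain ⟨⟨d, hdN⟩, hd⟩ : α ∈ (Y : Subgroup (J3 F ω)).normalizerMonoidHom.range := htop ▸ mem_top _
    have hxY : x ∈ (Y : Subgroup (J3 F ω)) := e ▸ mem_zpowers x
    have hdx : d * x * d⁻¹ = x ^ 3 := by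
      have := congrArg Subtype.val (DFunLike.congr_fun hd (⟨x, hxY⟩ : (Y : Subgroup (J3 F ω))))
      exact this
    obtain ⟨y, hy, hy1, rfl⟩ := exists_lift h (by norm_num) (by norm_num) hx
    obtain ⟨d', rfl⟩ := QuotientGroup.mk'_surjective (center (threeJ3 F ω)) d
    have e3 := lift_conj h (k := 3) (by norm_num) (by norm_num) hy hdx
    have e6 : y * d' = d' * y ^ 6 := by
      have : d' * y ^ 6 * d'⁻¹ = y := by
        rw [← conj_pow, e3, ← pow_mul, show 3 * 6 = 17 + 1 by norm_num, pow_succ, hy, one_mul]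
      exact (mul_inv_eq_iff_eq_mul.1 this).symm
    refine no_six hF (M := matHom ω y) (D := matHom ω d') (E := matHom ω d'⁻¹)
      (by rw [← map_pow, hy, map_one]) (fun e0 => hy1 (matHom_injective (e0.trans (map_one _).symm)))
      (by rw [← map_mul, inv_mul_cancel, map_one]) ?_
    rw [← map_pow, ← map_mul, ← map_mul, e6]
  -- a nontrivial action
  have hm1 : m ≠ 1 := by
    intro h1
    have hle : normalizer ((Y : Subgroup (J3 F ω)) : Set (J3 F ω)) ≤
        centralizer ((Y : Subgroup (J3 F ω)) : Set (J3 F ω)) :=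
      (eq_of_le_of_card_ge (centralizer_le_normalizer _) (by rw [hN, h1, mul_one, ← hc])).ge
    have hK := MonoidHom.ker_transferSylow_isComplement' Y hle
    have hcard := hK.card_mul_card
    rw [hY, h.card_J3] at hcard
    rcases Subgroup.Normal.eq_bot_or_eq_top (MonoidHom.normal_ker (MonoidHom.transferSylow Y hle)) with h0 | h0 <;>
      rw [h0] at hcard
    · rw [card_bot] at hcard; norm_num at hcard
    · rw [card_top, h.card_J3] at hcard; norm_num at hcard
  have h8 : c = 17 ∧ m = 8 := by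
    obtain ⟨c', rfl⟩ := h17
    have h34 : Nat.Coprime (17 * c') (2 ^ 7 * 19) :=
      Nat.Coprime.mul_right (((Nat.Prime.coprime_iff_not_dvd Nat.prime_two).2 h2).symm.pow_right _)
        ((Nat.Prime.coprime_iff_not_dvd (by norm_num)).2 h19).symm
    have hd2 : 17 * c' ∣ 17 * 1215 := h34.dvd_of_dvd_mul_left (by norm_num; exact hcd)
    have hc'0 : 0 < c' := Nat.pos_of_ne_zero fun e0 => by simp [e0] at hcd
    have hm0 : 0 < m := Nat.pos_of_ne_zero fun e0 => by simp [e0] at hidx
    have hq' : Nat.card (Sylow 17 (J3 F ω)) = 2954880 / (c' * m) :=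
      (Nat.div_eq_of_eq_mul_right (Nat.mul_pos hc'0 hm0) (by nlinarith)).symm
    have key : ∀ a ∈ Nat.divisors 1215, ∀ k ∈ Nat.divisors 16, k ≠ 1 → k ≠ 16 →
        17 * a * k * (2954880 / (a * k)) = 50232960 ∧ 2954880 / (a * k) % 17 = 1 → a = 1 ∧ k = 8 := by
      decide +kernel
    obtain ⟨rfl, rfl⟩ := key c' (Nat.mem_divisors.2 ⟨Nat.dvd_of_mul_dvd_mul_left (by norm_num) hd2, by norm_num⟩) m
      (Nat.mem_divisors.2 ⟨hm, by norm_num⟩) hm1 hm16
      ⟨by rw [← hq']; exact hidx, by rw [← hq']; exact hmod⟩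
    exact ⟨by norm_num, rfl⟩
  have hC : centralizer ((Y : Subgroup (J3 F ω)) : Set (J3 F ω)) = Y := by
    refine (eq_of_le_of_card_ge ?_ (by rw [hY, ← hc, h8.1])).symm
    rw [e, centralizer_zpowers]
    exact zpowers_le.2 (mem_centralizer_singleton_iff.2 rfl)
  obtain ⟨-, rfl⟩ := h8
  exact ⟨hC, hq hC⟩

end Cfsg.Agent.Lib.J3.ModelLocal
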