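import Cfsg.Agent.Lib.J3.KSub

/-!
The subgroup of index 6156 has a homomorphism onto a group of order two: a parity of the generators
which is consistent with the kernel tables of the subgroup.
-/

set_option autoImplicit false
set_option linter.style.haveILetI false

namespace Cfsg.Agent.Lib.J3.ModelLocal

open Cfsg.Spor
open scoped MatrixGroups

/-- The parities of the generators. -/
def wBit (g : ℕ) : Bool := (192 : ℕ).testBit g

/-- The parities of the complement. -/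
def tBit (t : ℕ) : Bool := (0x2d56aaacaab2cacb32cd348 : ℕ).testBit t

/-- The parities of the representatives. -/
def rBit (j : ℕ) : Bool := (0x1177e : ℕ).testBit j

/-- All tables respect the parities. -/
def parOk : Bool :=
  (List.range 89).all (fun i =>
      let p := tab 13 kTPar (i + 1)
      tBit (i + 1) == (wBit (4 + p % 8) ^^ tBit (p / 8))) &&
    (List.range 3).all (fun g => (List.range 90).all fun t =>
      tBit (tab 10 kTAct (g * 90 + t)) == (wBit (4 + g) ^^ tBit t)) &&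
    (List.range 7).all (fun g => (List.range 16).all fun e => tBit (tab 12 kBAct (g * 16 + e) / 16) == wBit g) &&
    (List.range 8).all (fun g => (List.range 17).all fun j =>
      let r := tab 16 kRepAct (g * 17 + j)
      (wBit g ^^ rBit j) == (rBit (r % 32) ^^ tBit (r / 512)))

theorem parOk_eq : parOk = true := by decide +kernel

theorem bit_zero : tBit 0 = false ∧ rBit 0 = false ∧ (∀ g < 4, wBit g = false) ∧ wBit 6 = true := by decide +kernel

/-- A parity as an element of a group of order two. -/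
def pv : Bool → Multiplicative (ZMod 2)
  | false => 1
  | true => Multiplicative.ofAdd 1

theorem pv_xor : ∀ a b : Bool, pv (a ^^ b) = pv a * pv b := by decide +kernel

variable {F : Type*} [Field F] [Finite F] {ω : F}

/-- Pairs. -/
abbrev Γ (ω : F) : Type _ := threeJ3 F ω × Multiplicative (ZMod 2)

noncomputable def gp (ω : F) (g : ℕ) : Γ ω := (el ω (kg g), pv (wBit g))

noncomputable def ep (ω : F) (e : ℕ) : Γ ω := (el ω (getM kE e), 1)

noncomputable def tp (ω : F) (t : ℕ) : Γ ω := (el ω (getM kT t), pv (tBit t))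

noncomputable def rp (ω : F) (j : ℕ) : Γ ω := (el ω (getM kRep j), pv (rBit j))

noncomputable def HT (ω : F) : Subgroup (Γ ω) := Subgroup.closure (Set.range fun g : Fin 3 => gp ω (4 + g))

noncomputable def HB (ω : F) : Subgroup (Γ ω) := Subgroup.closure (Set.range fun g : Fin 7 => gp ω g)

theorem table_step (h : Fld F ω) {g a b : ℕ} {bg ba bb : Bool} (hg' : g < 8) (ha : InG ω a)
    (e : mul (kg g) a = b) (eb : bb = (bg ^^ ba)) (hbg : wBit g = bg) :
    gp ω g * (el ω a, pv ba) = ((el ω b, pv bb) : Γ ω) := by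
  subst e eb hbg
  rw [h.el_mul (h.inSub_kg hg').1 ha, pv_xor]
  rfl

theorem parOk_spec : (∀ i < 89, tBit (i + 1) = (wBit (4 + tab 13 kTPar (i + 1) % 8) ^^ tBit (tab 13 kTPar (i + 1) / 8))) ∧
    (∀ g < 3, ∀ t < 90, tBit (tab 10 kTAct (g * 90 + t)) = (wBit (4 + g) ^^ tBit t)) ∧
    (∀ g < 7, ∀ e < 16, tBit (tab 12 kBAct (g * 16 + e) / 16) = wBit g) ∧
    ∀ g < 8, ∀ j < 17, (wBit g ^^ rBit j) =
      (rBit (tab 16 kRepAct (g * 17 + j) % 32) ^^ tBit (tab 16 kRepAct (g * 17 + j) / 512)) := by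
  have e := parOk_eq
  simp only [parOk, Bool.and_eq_true] at e
  obtain ⟨⟨⟨e1, e2⟩, e3⟩, e4⟩ := e
  exact ⟨fun i hi => eq_of_beq (all_range e1 hi), fun g hg' t ht => eq_of_beq (all_range (all_range e2 hg') ht),
    fun g hg' x hx => eq_of_beq (all_range (all_range e3 hg') hx),
    fun g hg' j hj => eq_of_beq (all_range (all_range e4 hg') hj)⟩

/-- The steps in the tables. -/
theorem steps : (∀ i < 89, tab 13 kTPar (i + 1) % 8 < 3 ∧ tab 13 kTPar (i + 1) / 8 ≤ i ∧
      getM kT (i + 1) = mul (kg (4 + tab 13 kTPar (i + 1) % 8)) (getM kT (tab 13 kTPar (i + 1) / 8))) ∧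
    (∀ i < 15, tab 13 kEPar (i + 1) % 8 < 4 ∧ tab 13 kEPar (i + 1) / 8 ≤ i ∧
      getM kE (i + 1) = mul (kg (tab 13 kEPar (i + 1) % 8)) (getM kE (tab 13 kEPar (i + 1) / 8))) ∧
    (∀ g < 3, ∀ t < 90, tab 10 kTAct (g * 90 + t) < 90 ∧
      mul (kg (4 + g)) (getM kT t) = getM kT (tab 10 kTAct (g * 90 + t))) ∧
    (∀ g < 7, ∀ e < 16, tab 12 kBAct (g * 16 + e) / 16 < 90 ∧
      mul (kg g) (getM kE e) = kb (tab 12 kBAct (g * 16 + e) % 16) (tab 12 kBAct (g * 16 + e) / 16)) ∧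
    ∀ g < 8, ∀ j < 17, tab 16 kRepAct (g * 17 + j) % 32 < 17 ∧ tab 16 kRepAct (g * 17 + j) / 512 < 90 ∧
      mul (kg g) (getM kRep j) = mul (getM kRep (tab 16 kRepAct (g * 17 + j) % 32))
        (kb (tab 16 kRepAct (g * 17 + j) / 32 % 16) (tab 16 kRepAct (g * 17 + j) / 512)) := by
  have e := kOk_eq
  simp only [kOk, Bool.and_eq_true] at e
  obtain ⟨⟨⟨⟨⟨⟨-, e5⟩, e6⟩, e7⟩, e8⟩, -⟩, e10⟩ := e
  refine ⟨fun i hi => ?_, fun i hi => ?_, fun g hg' t ht => ?_, fun g hg' x hx => ?_, fun g hg' j hj => ?_⟩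
  · have c := all_range e6 hi
    simp only [Bool.and_eq_true] at c
    exact ⟨blt_lt c.1.2, Nat.le_of_lt_succ (blt_lt c.1.1), Nat.eq_of_beq_eq_true c.2⟩
  · have c := all_range e5 hi
    simp only [Bool.and_eq_true] at c
    exact ⟨blt_lt c.1.2, Nat.le_of_lt_succ (blt_lt c.1.1), Nat.eq_of_beq_eq_true c.2⟩
  · have c := all_range (all_range e7 hg') ht
    rw [Bool.and_eq_true] at c
    exact ⟨blt_lt c.1, Nat.eq_of_beq_eq_true c.2⟩
  · have c := all_range (all_range e8 hg') hx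
    rw [Bool.and_eq_true] at c
    exact ⟨blt_lt c.1, Nat.eq_of_beq_eq_true c.2⟩
  · have c := all_range (all_range e10 hg') hj
    simp only [Bool.and_eq_true] at c
    exact ⟨blt_lt c.1.1, blt_lt c.1.2, Nat.eq_of_beq_eq_true c.2⟩

theorem tp_mem (h : Fld F ω) : ∀ t < 90, tp ω t ∈ HT ω := by
  intro t
  induction t using Nat.strong_induction_on with
  | _ t ih =>
    intro ht
    rcases t with _ | i
    · have : tp ω 0 = 1 := by rw [tp, kOk_spec.2.2.1, h.el_idM, bit_zero.1]; rfl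
      rw [this]; exact one_mem _
    · obtain ⟨hg', hb, e⟩ := steps.1 i (by omega)
      have := table_step h (g := 4 + tab 13 kTPar (i + 1) % 8) (by omega)
        (h.inSub_kT (show tab 13 kTPar (i + 1) / 8 < 90 by omega)).1 e.symm (parOk_spec.1 i (by omega)) rfl
      rw [tp, ← this]
      exact mul_mem (Subgroup.subset_closure ⟨⟨_, hg'⟩, rfl⟩) (ih _ (by omega) (by omega))

theorem ep_mem (h : Fld F ω) : ∀ e < 16, ep ω e ∈ HB ω := by
  intro t
  induction t using Nat.strong_induction_on with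
  | _ t ih =>
    intro ht
    rcases t with _ | i
    · have : ep ω 0 = 1 := by rw [ep, kOk_spec.2.1, h.el_idM]; rfl
      rw [this]; exact one_mem _
    · obtain ⟨hg', hb, e⟩ := steps.2.1 i (by omega)
      have := table_step h (g := tab 13 kEPar (i + 1) % 8) (ba := false) (bb := false) (by omega)
        (h.inSub_kE (show tab 13 kEPar (i + 1) / 8 < 16 by omega)).1 e.symm rfl (bit_zero.2.2.1 _ hg')
      rw [ep, ← show pv false = 1 from rfl, ← this]
      exact mul_mem (Subgroup.subset_closure ⟨⟨_, show tab 13 kEPar (i + 1) % 8 < 7 by omega⟩, rfl⟩)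
        (ih _ (by omega) (by omega))

theorem HT_mul (h : Fld F ω) {x : Γ ω} (hx : x ∈ HT ω) : ∀ t < 90, ∃ t' < 90, x * tp ω t = tp ω t' := by
  refine closure_subset_left (S := {x | ∀ t < 90, ∃ t' < 90, x * tp ω t = tp ω t'})
    (fun t ht => ⟨t, ht, one_mul _⟩) ?_ x hx
  rintro _ ⟨g, rfl⟩ y hy t ht
  obtain ⟨t', ht', e⟩ := hy t ht
  obtain ⟨hlt, em⟩ := steps.2.2.1 g g.2 t' ht'
  refine ⟨_, hlt, ?_⟩
  rw [mul_assoc, e]
  exact table_step h (g := 4 + g.val) (by omega) (h.inSub_kT ht').1 em (parOk_spec.2.1 g g.2 t' ht') rfl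

theorem HB_mul (h : Fld F ω) {x : Γ ω} (hx : x ∈ HB ω) : ∀ e < 16, ∀ t < 90,
    ∃ e' < 16, ∃ t' < 90, x * (ep ω e * tp ω t) = ep ω e' * tp ω t' := by
  refine closure_subset_left (S := {x | ∀ e < 16, ∀ t < 90, ∃ e' < 16, ∃ t' < 90,
    x * (ep ω e * tp ω t) = ep ω e' * tp ω t'}) (fun e he' t ht => ⟨e, he', t, ht, one_mul _⟩) ?_ x hx
  rintro _ ⟨g, rfl⟩ y hy e he' t ht
  obtain ⟨e1, he1, t1, ht1, ey⟩ := hy e he' t ht
  obtain ⟨hlt, em⟩ := steps.2.2.2.1 g g.2 e1 he1
  obtain ⟨t2, ht2, et⟩ := HT_mul h (tp_mem h _ hlt) t1 ht1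
  refine ⟨_, Nat.mod_lt (tab 12 kBAct (g.val * 16 + e1)) (by norm_num), t2, ht2, ?_⟩
  rw [mul_assoc, ey, ← et, ← mul_assoc, ← mul_assoc]
  congr 1
  have := table_step h (g := g.val) (by omega) (ba := false) (h.inSub_kE he1).1 em
    (bb := tBit (tab 12 kBAct (g.val * 16 + e1) / 16))
    (by rw [parOk_spec.2.2.1 g g.2 e1 he1, Bool.xor_false]) rfl
  refine this.trans ?_
  rw [h.el_kb (Nat.mod_lt _ (by norm_num)) hlt, ep, tp, Prod.mk_mul_mk, one_mul]

/-- The graph of the parity. -/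
noncomputable def HK (ω : F) : Subgroup (Γ ω) := Subgroup.closure (Set.range fun g : Fin 8 => gp ω g)

theorem HK_eq (h : Fld F ω) {x : Γ ω} (hx : x ∈ HK ω) :
    ∃ j < 17, ∃ e < 16, ∃ t < 90, x = rp ω j * (ep ω e * tp ω t) := by
  refine closure_subset_left (S := {x | ∃ j < 17, ∃ e < 16, ∃ t < 90, x = rp ω j * (ep ω e * tp ω t)}) ?_ ?_ x hx
  · refine ⟨0, by norm_num, 0, by norm_num, 0, by norm_num, ?_⟩
    rw [rp, ep, tp, kOk_spec.2.1, kOk_spec.2.2.1, kOk_spec.2.2.2.1, h.el_idM, bit_zero.1, bit_zero.2.1]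
    exact Prod.ext (by simp) (by simp [pv])
  rintro _ ⟨g, rfl⟩ _ ⟨j, hj, e, he', t, ht, rfl⟩
  obtain ⟨hj', hlt, em⟩ := steps.2.2.2.2 g g.2 j hj
  set r := tab 16 kRepAct (g.val * 17 + j) with hr
  have hT : tp ω (r / 512) ∈ HB ω := by
    have : HT ω ≤ HB ω := (Subgroup.closure_le _).2 (by
      rintro _ ⟨k, rfl⟩; exact Subgroup.subset_closure ⟨⟨4 + k.val, by omega⟩, rfl⟩)
    exact this (tp_mem h _ hlt)
  obtain ⟨e2, he2, t2, ht2, eb⟩ := HB_mul h (mul_mem (ep_mem h (r / 32 % 16) (Nat.mod_lt _ (by norm_num))) hT)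
    e he' t ht
  refine ⟨_, hj', e2, he2, t2, ht2, ?_⟩
  rw [← eb, ← mul_assoc, ← mul_assoc _ _ (ep ω e * tp ω t)]
  congr 1
  have := table_step h (g := g.val) g.2 (ba := rBit j) (h.inSub_kRep hj).1 em (bb := wBit g ^^ rBit j) rfl rfl
  refine this.trans ?_
  rw [parOk_spec.2.2.2 g g.2 j hj, pv_xor, h.el_mul (h.inSub_kRep hj').1 (h.inSub_kb (Nat.mod_lt _ (by norm_num)) hlt).1,
    h.el_kb (Nat.mod_lt _ (by norm_num)) hlt, rp, ep, tp, Prod.mk_mul_mk, Prod.mk_mul_mk, one_mul]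

/-- The parity as a homomorphism. -/
theorem exists_parity (h : Fld F ω) :
    ∃ χ : kGp ω →* Multiplicative (ZMod 2), Function.Surjective χ := by
  let π : HK ω →* threeJ3 F ω := (MonoidHom.fst _ _).comp (HK ω).subtype
  have hr : π.range = kGp ω := by
    rw [MonoidHom.range_comp, Subgroup.range_subtype, HK, MonoidHom.map_closure, ← Set.range_comp]
    rfl
  have hle : Nat.card (HK ω) ≤ 24480 := by
    choose j hj e he' t ht hx using fun x : HK ω => HK_eq h x.2
    have := Nat.card_le_card_of_injective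
      (fun x => ((⟨j x, hj x⟩, ⟨e x, he' x⟩, ⟨t x, ht x⟩) : Fin 17 × Fin 16 × Fin 90)) fun x y hxy => by
      simp only [Prod.mk.injEq, Fin.mk.injEq] at hxy
      apply Subtype.ext
      rw [hx x, hx y, hxy.1, hxy.2.1, hxy.2.2]
    simpa using this
  have hcard : Nat.card π.range = 24480 := by rw [hr, h.card_kGp]
  have hinj : Function.Injective π := by
    have hs : Function.Surjective π.rangeRestrict := π.rangeRestrict_surjective
    have hb : Function.Bijective π.rangeRestrict := hs.bijective_of_nat_card_le (by rw [hcard]; exact hle)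
    intro a b e
    exact hb.1 (Subtype.ext e)
  let e₁ : HK ω ≃* kGp ω := (MonoidHom.ofInjective hinj).trans (MulEquiv.subgroupCongr hr)
  let χ : kGp ω →* Multiplicative (ZMod 2) :=
    ((MonoidHom.snd _ _).comp (HK ω).subtype).comp e₁.symm.toMonoidHom
  refine ⟨χ, fun y => ?_⟩
  have h6 : (gp ω 6) ∈ HK ω := Subgroup.subset_closure ⟨⟨6, by norm_num⟩, rfl⟩
  have hv : χ (e₁ ⟨gp ω 6, h6⟩) = pv true := by
    show (e₁.symm (e₁ ⟨gp ω 6, h6⟩) : Γ ω).2 = _
    rw [MulEquiv.symm_apply_apply]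
    show pv (wBit 6) = _
    rw [bit_zero.2.2.2]
  have hy : ∀ y : Multiplicative (ZMod 2), y = 1 ∨ y = pv true := by decide +kernel
  rcases hy y with rfl | rfl
  · exact ⟨1, map_one _⟩
  · exact ⟨_, hv⟩

end Cfsg.Agent.Lib.J3.ModelLocal
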