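import Cfsg.Agent.Lib.J3.ModelLocal.Local
import Cfsg.Agent.Lib.J3.ModelLocal.Parity
import Cfsg.Agent.S0981
import Cfsg.Prelude.Def_Spor_J3

/-!
For a group isomorphic to the third Janko group: the subgroup `SL(2, 16):2` and the normalisers of the
Sylow subgroups for seventeen and nineteen.
-/

set_option autoImplicit false
set_option linter.style.haveILetI false

namespace Cfsg.Agent.Lib.J3.ModelLocal

open Cfsg.Spor Subgroup
open scoped MatrixGroups

/-- A group with self-centralising subgroups of order seventeen has no normal subgroup of order 120. -/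
theorem no_normal_120 {H : Type*} [Group H] [Finite H]
    (hC : ∀ x : H, orderOf x = 17 → Nat.card (centralizer ({x} : Set H)) ∣ 17)
    (Q : Subgroup H) [Q.Normal] (hQ : Nat.card Q = 120) (h17 : 17 ∣ Nat.card H) : False := by
  haveI : Fact (Nat.Prime 5) := ⟨Nat.prime_five⟩
  haveI : Fact (Nat.Prime 17) := ⟨by norm_num⟩
  obtain ⟨S⟩ : Nonempty (Sylow 5 Q) := inferInstance
  have hS : Nat.card ((S : Subgroup Q).map Q.subtype) = 5 := by
    rw [Nat.card_congr ((S : Subgroup Q).equivMapOfInjective Q.subtype Q.subtype_injective).symm.toEquiv,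
      S.card_eq_multiplicity, hQ, show (120 : ℕ) = 5 * 24 by norm_num, Nat.factorization_mul (by norm_num) (by norm_num),
      Finsupp.add_apply, Nat.Prime.factorization_self Nat.prime_five,
      Nat.factorization_eq_zero_of_not_dvd (by norm_num : ¬ 5 ∣ 24), add_zero, pow_one]
  set T := (S : Subgroup Q).map Q.subtype with hT
  set N := normalizer ((T : Subgroup H) : Set H)
  have hsup : N ⊔ Q = ⊤ := Sylow.normalizer_sup_eq_top S
  have hsurj : Function.Surjective ((QuotientGroup.mk' Q).comp N.subtype) := by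
    intro y
    obtain ⟨g, rfl⟩ := QuotientGroup.mk'_surjective Q y
    obtain ⟨n, hn, q, hq, rfl⟩ : ∃ n ∈ N, ∃ q ∈ Q, n * q = g :=
      Subgroup.mem_sup_of_normal_right.1 (hsup.symm ▸ mem_top g)
    exact ⟨⟨n, hn⟩, by simpa [QuotientGroup.eq] using hq⟩
  have h1 : 17 ∣ Nat.card N := by
    refine dvd_trans ?_ (card_dvd_of_surjective _ hsurj)
    have h2 := Subgroup.card_eq_card_quotient_mul_card_subgroup Q
    rw [h2, hQ] at h17
    exact (show Nat.Coprime 17 120 by norm_num).dvd_of_dvd_mul_right h17
  obtain ⟨⟨x, hxN⟩, hx⟩ := exists_prime_orderOf_dvd_card' (G := N) 17 h1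
  rw [orderOf_mk] at hx
  haveI : IsCyclic T := isCyclic_of_prime_card hS
  set φ := T.normalizerMonoidHom
  have hd : orderOf (φ ⟨x, hxN⟩) ∣ 4 := by
    have := orderOf_dvd_natCard (φ ⟨x, hxN⟩)
    rwa [IsCyclic.card_mulAut, hS, Nat.totient_prime Nat.prime_five] at this
  have hd' : orderOf (φ ⟨x, hxN⟩) ∣ 17 := by
    rw [← hx]
    exact (orderOf_map_dvd φ _).trans (orderOf_mk x hxN).dvd
  have hker : (⟨x, hxN⟩ : N) ∈ φ.ker := by
    rw [MonoidHom.mem_ker, ← orderOf_eq_one_iff]
    exact Nat.eq_one_of_dvd_coprimes (show Nat.Coprime 4 17 by norm_num) hd hd'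
  rw [normalizerMonoidHom_ker, mem_subgroupOf] at hker
  have hle : T ≤ centralizer ({x} : Set H) := fun s hs =>
    mem_centralizer_singleton_iff.2 (mem_centralizer_iff.1 hker s hs)
  have := (card_dvd_of_le hle).trans (hC x hx)
  rw [hS] at this
  norm_num at this

/-- Simplicity at order 4080. -/
theorem simple_4080 {L : Type*} [Group L] [Finite L] (hL : Nat.card L = 4080)
    (hC : ∀ x : L, orderOf x = 17 → Nat.card (centralizer ({x} : Set L)) = 17)
    (hnn : ∀ P : Sylow 17 L, ¬ (P : Subgroup L).Normal) : IsSimpleGroup L := by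
  haveI : Fact (Nat.Prime 17) := ⟨by norm_num⟩
  haveI : Nontrivial L := Finite.one_lt_card_iff_nontrivial.1 (by rw [hL]; norm_num)
  have hC' : ∀ (M : Subgroup L) (x : M), orderOf x = 17 → Nat.card (centralizer ({x} : Set M)) ∣ 17 := by
    intro M x hx
    rw [← hC (x : L) (by rw [Subgroup.orderOf_coe, hx])]
    refine Subgroup.card_dvd_of_injective ((M.subtype.comp (centralizer ({x} : Set M)).subtype).codRestrict _ ?_) ?_
    · exact fun c => mem_centralizer_singleton_iff.2 (congrArg Subtype.val (mem_centralizer_singleton_iff.1 c.2))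
    · exact fun a b e => Subtype.ext (Subtype.ext (congrArg (fun z => (z.1)) e))
  have hP : ∀ P : Sylow 17 L, Nat.card (P : Subgroup L) = 17 := fun P => by
    rw [P.card_eq_multiplicity, hL, show (4080 : ℕ) = 17 * 240 by norm_num,
      Nat.factorization_mul (by norm_num) (by norm_num), Finsupp.add_apply,
      Nat.Prime.factorization_self (by norm_num),
      Nat.factorization_eq_zero_of_not_dvd (by norm_num : ¬ 17 ∣ 240), add_zero, pow_one]
  obtain ⟨P⟩ : Nonempty (Sylow 17 L) := inferInstance
  obtain ⟨x, hx, hPx⟩ := sylow_gen P (hP P)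
  have hn : Nat.card (Sylow 17 L) = 120 := by
    have hd : Nat.card (Sylow 17 L) ∣ 240 := by
      refine (P.card_dvd_index).trans ?_
      have := (P : Subgroup L).card_mul_index
      rw [hP, hL] at this
      exact ⟨1, by omega⟩
    have hmod := card_sylow_modEq_one 17 L
    have hne : Nat.card (Sylow 17 L) ≠ 1 := fun e => by
      refine hnn P ?_
      rw [← normalizer_eq_top_iff, ← index_eq_one, ← e]
      exact P.card_eq_index_normalizer.symm
    have key : ∀ k ∈ Nat.divisors 240, k ≠ 1 → k % 17 = 1 → k = 120 := by decide +kernel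
    exact key _ (Nat.mem_divisors.2 ⟨hd, by norm_num⟩) hne hmod
  have hN : Nat.card (normalizer ((P : Subgroup L) : Set L)) = 34 := by
    have := (normalizer ((P : Subgroup L) : Set L)).card_mul_index
    rw [show (normalizer ((P : Subgroup L) : Set L)).index = 120 from P.card_eq_index_normalizer.symm.trans hn, hL] at this
    omega
  refine ⟨fun M hM => ?_⟩
  by_cases h17 : 17 ∣ Nat.card M
  · right
    -- all Sylow subgroups lie in `M`
    have hle : ∀ R : Sylow 17 L, (R : Subgroup L) ≤ M := by
      intro R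
      obtain ⟨⟨u, hu⟩, huo⟩ := exists_prime_orderOf_dvd_card' (G := M) 17 h17
      rw [orderOf_mk] at huo
      obtain ⟨R', hR'⟩ := (IsPGroup.of_card (n := 1) (by rw [Nat.card_zpowers, huo, pow_one]) :
        IsPGroup 17 (zpowers u)).exists_le_sylow
      have e : zpowers u = (R' : Subgroup L) := eq_of_le_of_card_ge hR' (by rw [Nat.card_zpowers, huo, hP])
      obtain ⟨g, rfl⟩ := MulAction.exists_smul_eq L R' R
      rintro _ ⟨r, hr, rfl⟩
      exact hM.conj_mem r ((zpowers_le.2 hu) (e.symm ▸ hr)) g
    let P' : Sylow 17 M := P.subtype (hle P)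
    have hP' : Nat.card (P' : Subgroup M) = 17 := by
      exact (Nat.card_congr (subgroupOfEquivOfLe (hle P)).toEquiv).trans (hP P)
    have hnM : Nat.card (Sylow 17 M) = 120 := by
      rw [← hn]
      refine Nat.card_congr ⟨fun R => Sylow.ofCard ((R : Subgroup M).map M.subtype) ?_, fun R => R.subtype (hle R), ?_, ?_⟩
      · rw [Nat.card_congr ((R : Subgroup M).equivMapOfInjective M.subtype M.subtype_injective).symm.toEquiv,
          R.card_eq_multiplicity, ← P'.card_eq_multiplicity, hP', ← P.card_eq_multiplicity, hP P]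
      · intro R
        exact Sylow.ext (comap_map_eq_self_of_injective M.subtype_injective _)
      · intro R
        exact Sylow.ext (map_subgroupOf_eq_of_le (hle R))
    have hd : Nat.card M ∣ 4080 := hL ▸ card_subgroup_dvd_card M
    have hi := (normalizer ((P' : Subgroup M) : Set M)).card_mul_index
    rw [show (normalizer ((P' : Subgroup M) : Set M)).index = 120 from P'.card_eq_index_normalizer.symm.trans hnM] at hi
    have h17' : 17 ∣ Nat.card (normalizer ((P' : Subgroup M) : Set M)) := by
      have := card_dvd_of_le (le_normalizer (H := (P' : Subgroup M)))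
      rwa [hP'] at this
    obtain ⟨a, ha⟩ := h17'
    rw [ha] at hi
    have hd2 : a ∣ 2 := by
      rw [← hi] at hd
      exact Nat.dvd_of_mul_dvd_mul_left (show 0 < 17 * 120 by norm_num) (by convert hd using 1; ring)
    rcases (Nat.dvd_prime Nat.prime_two).1 hd2 with rfl | rfl
    · exfalso
      have hle' : normalizer ((P' : Subgroup M) : Set M) ≤ centralizer ((P' : Subgroup M) : Set M) := by
        rw [← eq_of_le_of_card_ge le_normalizer (by rw [ha, hP'])]
        haveI : IsCyclic (P' : Subgroup M) := isCyclic_of_prime_card hP'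
        intro y hy
        exact mem_centralizer_iff.2 fun z hz =>
          congrArg Subtype.val (IsMulCommutative.is_comm.comm (⟨z, hz⟩ : (P' : Subgroup M)) ⟨y, hy⟩)
      have hK := MonoidHom.ker_transferSylow_isComplement' P' hle'
      have hcard := hK.card_mul_card
      rw [hP'] at hcard
      exact no_normal_120 (hC' M) (MonoidHom.transferSylow P' hle').ker (by omega) ⟨120, by omega⟩
    · exact eq_top_of_card_eq M (by omega)
  · left
    -- the Sylow subgroup acts without fixed points
    haveI := hM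
    let act : MulAction (P : Subgroup L) M :=
      { smul := fun g m => ⟨(g : L) * m * (g : L)⁻¹, hM.conj_mem m m.2 g⟩
        one_smul := fun m => Subtype.ext (show ((1 : (P : Subgroup L)) : L) * m * ((1 : (P : Subgroup L)) : L)⁻¹ = m by simp)
        mul_smul := fun a b m => Subtype.ext (show ((a * b : (P : Subgroup L)) : L) * m * ((a * b : (P : Subgroup L)) : L)⁻¹ =
          (a : L) * ((b : L) * m * (b : L)⁻¹) * (a : L)⁻¹ by push_cast; group) }
    have hfix : MulAction.fixedPoints (P : Subgroup L) M = {1} := by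
      ext m
      constructor
      · intro hm
        have hxP : x ∈ (P : Subgroup L) := hPx ▸ mem_zpowers x
        have e : x * (m : L) * x⁻¹ = m := congrArg Subtype.val (hm ⟨x, hxP⟩)
        have hmc : (m : L) ∈ centralizer ({x} : Set L) :=
          mem_centralizer_singleton_iff.2 ((mul_inv_eq_iff_eq_mul.1 e).symm)
        have h1 := Subgroup.orderOf_dvd_natCard _ hmc
        rw [hC x hx] at h1
        have h2 : orderOf (m : L) ∣ Nat.card M := Subgroup.orderOf_dvd_natCard M m.2
        have h3 := Nat.dvd_gcd h1 h2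
        rw [((Nat.Prime.coprime_iff_not_dvd (by norm_num)).2 h17 : Nat.gcd 17 (Nat.card M) = 1)] at h3
        exact Subtype.ext (orderOf_eq_one_iff.1 (Nat.dvd_one.1 h3))
      · rintro rfl g
        exact Subtype.ext (show (g : L) * ((1 : M) : L) * (g : L)⁻¹ = ((1 : M) : L) by simp)
    have hmod := (IsPGroup.of_card (n := 1) (by rw [hP, pow_one]) : IsPGroup 17 (P : Subgroup L)).card_modEq_card_fixedPoints (α := M)
    rw [hfix, Nat.card_eq_fintype_card (α := ({1} : Set M)), Set.card_singleton] at hmod
    replace hmod : Nat.card M % 17 = 1 := hmod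
    have hd : Nat.card M ∣ 240 := ((Nat.Prime.coprime_iff_not_dvd (by norm_num)).2 h17).symm.dvd_of_dvd_mul_left
      (show Nat.card M ∣ 17 * 240 by rw [show 17 * 240 = Nat.card L by rw [hL]]; exact card_subgroup_dvd_card M)
    have key : ∀ k ∈ Nat.divisors 240, k % 17 = 1 → k = 1 ∨ k = 120 := by decide +kernel
    rcases key _ (Nat.mem_divisors.2 ⟨hd, by norm_num⟩) hmod with h1 | h1
    · exact card_eq_one.1 h1
    · exact (no_normal_120 (fun y hy => (hC y hy).dvd) M h1 (hL ▸ by norm_num)).elim

variable {F : Type*} [Field F] [Fintype F] {ω : F}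

theorem cent_seventeen (hF : Fintype.card F = 4) (h : Fld F ω) {x : J3 F ω} (hx : orderOf x = 17) :
    Nat.card (centralizer ({x} : Set (J3 F ω))) = 17 ∧
      Nat.card (normalizer ((zpowers x : Subgroup (J3 F ω)) : Set (J3 F ω))) = 136 := by
  haveI : Fact (Nat.Prime 17) := ⟨by norm_num⟩
  obtain ⟨Y, hY⟩ := (IsPGroup.of_card (n := 1) (by rw [Nat.card_zpowers, hx, pow_one]) :
    IsPGroup 17 (zpowers x)).exists_le_sylow
  have hYc := sylow_card_prime h 17 (Or.inl rfl) Y
  have e : zpowers x = (Y : Subgroup (J3 F ω)) := eq_of_le_of_card_ge hY (by rw [Nat.card_zpowers, hx, hYc])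
  obtain ⟨hC, hn, -, hq⟩ := seventeen hF h Y
  refine ⟨?_, ?_⟩
  · rw [← centralizer_zpowers, e, hC, hYc]
  · rw [e, Subgroup.card_eq_card_quotient_mul_card_subgroup
      ((Y : Subgroup (J3 F ω)).subgroupOf (normalizer ((Y : Subgroup (J3 F ω)) : Set (J3 F ω)))), hq,
      Nat.card_congr (subgroupOfEquivOfLe le_normalizer).toEquiv, hYc]

theorem sl2_extension (hF : Fintype.card F = 4) (h : Fld F ω) : ∃ (H : Subgroup (J3 F ω)) (N : Subgroup H) (K : Type) (_ : Field K)
    (_ : Fintype K), N.Normal ∧ N.index = 2 ∧ Fintype.card K = 16 ∧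
      Nonempty (N ≃* Matrix.SpecialLinearGroup (Fin 2) K) := by
  classical
  obtain ⟨χ, hχ⟩ := exists_parity h
  have hki : χ.ker.index = 2 := by
    rw [index_ker, MonoidHom.range_eq_top.2 hχ, card_top, Nat.card_congr Multiplicative.toAdd, Nat.card_zmod]
  set Lt := χ.ker.map (kGp ω).subtype with hLt
  have hLk : Lt ≤ kGp ω := map_subtype_le _
  have hLc : Nat.card Lt = 12240 := by
    have := χ.ker.card_mul_index
    rw [hki, h.card_kGp] at this
    rw [Nat.card_congr (χ.ker.equivMapOfInjective _ (kGp ω).subtype_injective).symm.toEquiv]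
    omega
  have hZ : center (threeJ3 F ω) ≤ Lt := fun z hz => by
    refine ⟨⟨z, h.center_le_kGp hz⟩, ?_, rfl⟩
    rw [SetLike.mem_coe, MonoidHom.mem_ker]
    have e3 : χ ⟨z, h.center_le_kGp hz⟩ ^ 3 = 1 := by
      rw [← map_pow, show (⟨z, h.center_le_kGp hz⟩ : kGp ω) ^ 3 = 1 from Subtype.ext (central_cube h hz), map_one]
    have key : ∀ a : Multiplicative (ZMod 2), a ^ 3 = 1 → a = 1 := by decide +kernel
    exact key _ e3
  set L := Lt.map (proj ω) with hL
  have hLK : L ≤ kImg ω := map_mono hLk
  have hLi : L.index = 12312 := by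
    rw [index_map_eq _ (QuotientGroup.mk'_surjective _) (by rw [QuotientGroup.ker_mk']; exact hZ)]
    have := Lt.card_mul_index
    rw [hLc, h.card_threeJ3] at this
    omega
  have hL4080 : Nat.card L = 4080 := by
    have := L.card_mul_index
    rw [hLi, h.card_J3] at this
    omega
  have hCL : ∀ x : L, orderOf x = 17 → Nat.card (centralizer ({x} : Set L)) = 17 := by
    intro x hx
    refine Nat.dvd_antisymm ?_ (hx ▸ Subgroup.orderOf_dvd_natCard _ (mem_centralizer_singleton_iff.2 rfl))
    rw [← (cent_seventeen hF h (x := (x : J3 F ω)) (by rw [Subgroup.orderOf_coe, hx])).1]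
    refine Subgroup.card_dvd_of_injective ((L.subtype.comp (centralizer ({x} : Set L)).subtype).codRestrict _ ?_) ?_
    · exact fun c => mem_centralizer_singleton_iff.2 (congrArg Subtype.val (mem_centralizer_singleton_iff.1 c.2))
    · exact fun a b e => Subtype.ext (Subtype.ext (congrArg (fun z => (z.1)) e))
  haveI : Fact (Nat.Prime 17) := ⟨by norm_num⟩
  haveI : IsSimpleGroup L := simple_4080 hL4080 hCL fun P hn => by
    have hP : Nat.card (P : Subgroup L) = 17 := by
      rw [P.card_eq_multiplicity, hL4080, show (4080 : ℕ) = 17 * 240 by norm_num,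
        Nat.factorization_mul (by norm_num) (by norm_num), Finsupp.add_apply,
        Nat.Prime.factorization_self (by norm_num),
        Nat.factorization_eq_zero_of_not_dvd (by norm_num : ¬ 17 ∣ 240), add_zero, pow_one]
    obtain ⟨x, hx, e⟩ := sylow_gen P hP
    have hle : L ≤ normalizer ((zpowers (x : J3 F ω) : Subgroup (J3 F ω)) : Set (J3 F ω)) := by
      intro g hg
      have hm : ∀ g ∈ L, ∀ z ∈ zpowers (x : J3 F ω), g * z * g⁻¹ ∈ zpowers (x : J3 F ω) := by
        intro g hg z hz
        obtain ⟨k, rfl⟩ := mem_zpowers_iff.1 hz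
        have hk : (x ^ k : L) ∈ (P : Subgroup L) := e ▸ zpow_mem (mem_zpowers x) k
        obtain ⟨j, hj⟩ := mem_zpowers_iff.1 (e ▸ hn.conj_mem _ hk ⟨g, hg⟩)
        exact mem_zpowers_iff.2 ⟨j, by simpa using congrArg Subtype.val hj⟩
      refine mem_normalizer_iff.2 fun z => ⟨hm g hg z, fun hz => ?_⟩
      simpa [mul_assoc] using hm g⁻¹ (inv_mem hg) _ hz
    have := card_dvd_of_le hle
    rw [hL4080, (cent_seventeen hF h (x := (x : J3 F ω)) (by rw [Subgroup.orderOf_coe, hx])).2] at this
    norm_num at this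
  haveI : Fact (Nat.Prime 2) := ⟨Nat.prime_two⟩
  haveI : Fintype (GaloisField 2 4) := Fintype.ofFinite _
  have hK : Fintype.card (GaloisField 2 4) = 16 := by
    rw [← Nat.card_eq_fintype_card, GaloisField.card 2 4 (by norm_num)]
    norm_num
  obtain ⟨e⟩ := Cfsg.Agent.S0981.result hL4080 (F := GaloisField 2 4) hK
  have hcenter : center (Matrix.SpecialLinearGroup (Fin 2) (GaloisField 2 4)) = ⊥ := by
    rw [eq_bot_iff]
    intro x hx
    obtain ⟨c, hc', hcx⟩ := Matrix.SpecialLinearGroup.mem_center_iff.1 hx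
    rw [Fintype.card_fin] at hc'
    have hc1 : c = 1 := by
      have h0 : (c - 1) * (c - 1) = 0 := by
        linear_combination hc' + (1 - c) * (CharTwo.two_eq_zero : (2 : GaloisField 2 4) = 0)
      exact sub_eq_zero.1 (mul_self_eq_zero.1 h0)
    rw [mem_bot]
    refine Subtype.ext ?_
    rw [← hcx, hc1]
    simp
  let e' : Matrix.SpecialLinearGroup (Fin 2) (GaloisField 2 4) ≃*
      Matrix.ProjectiveSpecialLinearGroup (Fin 2) (GaloisField 2 4) :=
    (QuotientGroup.quotientBot.symm).trans (QuotientGroup.quotientMulEquivOfEq hcenter.symm)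
  have hidx : (L.subgroupOf (kImg ω)).index = 2 := by
    have := relIndex_mul_index hLK
    rw [hLi, h.kImg_index.1] at this
    show L.relIndex (kImg ω) = 2
    omega
  exact ⟨kImg ω, L.subgroupOf (kImg ω), GaloisField 2 4, inferInstance, inferInstance,
    normal_of_index_eq_two hidx, hidx, hK, ⟨((subgroupOfEquivOfLe hLK).trans e).trans e'.symm⟩⟩

variable {G : Type*} [Group G] [Finite G]

/-- A group isomorphic to the third Janko group contains `SL(2, 16):2`. -/
theorem contains_sl2_16 (hG : Cfsg.Spor.IsoJ3 G) : ∃ (H : Subgroup G) (N : Subgroup H) (K : Type) (_ : Field K)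
    (_ : Fintype K), N.Normal ∧ N.index = 2 ∧ Fintype.card K = 16 ∧
      Nonempty (N ≃* Matrix.SpecialLinearGroup (Fin 2) K) := by
  obtain ⟨F, iF, iT, ω, hF, hω, ⟨e⟩⟩ := hG
  obtain ⟨H, N, K, iK, iKf, hN, hi, hK, ⟨f⟩⟩ := sl2_extension hF (Fld.of_card hF hω)
  let eH : H ≃* H.map e.symm.toMonoidHom := H.equivMapOfInjective _ e.symm.injective
  refine ⟨H.map e.symm.toMonoidHom, N.map eH.toMonoidHom, K, iK, iKf, hN.map _ eH.surjective, ?_, hK,
    ⟨(N.equivMapOfInjective _ eH.injective).symm.trans f⟩⟩
  rw [← hi]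
  exact index_map_of_bijective (f := eH.toMonoidHom) eH.bijective N

theorem transport {J : Type*} [Group J] [Finite J] (e : G ≃* J) (p n : ℕ) [Fact p.Prime]
    (hJ : ∀ X : Sylow p J, centralizer ((X : Subgroup J) : Set J) = X ∧
      ∃ _h : ((X : Subgroup J).subgroupOf (normalizer ((X : Subgroup J) : Set J))).Normal,
        IsCyclic (↥(normalizer ((X : Subgroup J) : Set J)) ⧸ (X : Subgroup J).subgroupOf (normalizer ((X : Subgroup J) : Set J))) ∧
        Nat.card (↥(normalizer ((X : Subgroup J) : Set J)) ⧸ (X : Subgroup J).subgroupOf (normalizer ((X : Subgroup J) : Set J))) = n)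
    (X : Sylow p G) : centralizer ((X : Subgroup G) : Set G) = X ∧
      ∃ _h : ((X : Subgroup G).subgroupOf (normalizer ((X : Subgroup G) : Set G))).Normal,
        IsCyclic (↥(normalizer ((X : Subgroup G) : Set G)) ⧸ (X : Subgroup G).subgroupOf (normalizer ((X : Subgroup G) : Set G))) ∧
        Nat.card (↥(normalizer ((X : Subgroup G) : Set G)) ⧸ (X : Subgroup G).subgroupOf (normalizer ((X : Subgroup G) : Set G))) = n := by
  obtain ⟨hC, hn, hcy, hcard⟩ := hJ (X.mapSurjective (f := e.toMonoidHom) e.surjective)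
  have hXe : ((X.mapSurjective (f := e.toMonoidHom) e.surjective : Sylow p J) : Subgroup J) =
      (X : Subgroup G).map e.toMonoidHom := rfl
  have hmem : ∀ g, g ∈ (X : Subgroup G) ↔ e g ∈ ((X.mapSurjective (f := e.toMonoidHom) e.surjective : Sylow p J) : Subgroup J) :=
    fun g => Iff.trans (by rw [e.symm_apply_apply]) (mem_map_equiv (f := e)).symm
  set X' : Subgroup J := ((X.mapSurjective (f := e.toMonoidHom) e.surjective : Sylow p J) : Subgroup J) with hX'
  have hN : ∀ g, g ∈ normalizer ((X : Subgroup G) : Set G) ↔ e g ∈ normalizer (X' : Set J) := by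
    intro g
    rw [mem_normalizer_iff, mem_normalizer_iff]
    refine ⟨fun hg z => ?_, fun hg z => ?_⟩
    · obtain ⟨z, rfl⟩ := e.surjective z
      rw [← map_inv, ← map_mul, ← map_mul, ← hmem, ← hmem]
      exact hg z
    · rw [hmem, hmem, map_mul, map_mul, map_inv]
      exact hg (e z)
  have hC' : centralizer ((X : Subgroup G) : Set G) = X := by
    ext g
    rw [hmem, ← hC]
    simp only [mem_centralizer_iff, SetLike.mem_coe]
    refine ⟨fun hg z hz => ?_, fun hg z hz => ?_⟩
    · obtain ⟨z, rfl⟩ := e.surjective z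
      rw [← map_mul, ← map_mul, hg z ((hmem z).2 hz)]
    · exact e.injective (by rw [map_mul, map_mul]; exact hg _ ((hmem z).1 hz))
  let ψ : ↥(normalizer ((X : Subgroup G) : Set G)) ≃* ↥(normalizer (X' : Set J)) :=
    { toFun := fun g => ⟨e g, (hN g).1 g.2⟩
      invFun := fun g => ⟨e.symm g, (hN _).2 (by rw [e.apply_symm_apply]; exact g.2)⟩
      left_inv := fun g => Subtype.ext (e.symm_apply_apply _)
      right_inv := fun g => Subtype.ext (e.apply_symm_apply _)
      map_mul' := fun a b => Subtype.ext (map_mul e _ _) }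
  have hn' : ((X : Subgroup G).subgroupOf (normalizer ((X : Subgroup G) : Set G))).Normal :=
    normal_in_normalizer
  haveI := hn'
  haveI := hn
  have hmap : ((X : Subgroup G).subgroupOf (normalizer ((X : Subgroup G) : Set G))).map ψ.toMonoidHom =
      X'.subgroupOf (normalizer (X' : Set J)) := by
    ext g
    constructor
    · rintro ⟨a, ha, rfl⟩
      exact (hmem _).1 ha
    · intro hg
      refine ⟨ψ.symm g, (hmem _).2 ?_, ψ.apply_symm_apply g⟩
      show e (e.symm (g : J)) ∈ X'
      rw [e.apply_symm_apply]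
      exact hg
  let q := QuotientGroup.congr _ _ ψ hmap
  exact ⟨hC', hn', haveI := hcy; isCyclic_of_surjective q.symm.toMonoidHom q.symm.surjective,
    (Nat.card_congr q.toEquiv).trans hcard⟩

/-- The Sylow subgroups for nineteen and seventeen of a group isomorphic to the third Janko group. -/
theorem sylow_seventeen_nineteen (hG : Cfsg.Spor.IsoJ3 G) :
    (∀ X : Sylow 19 G, centralizer ((X : Subgroup G) : Set G) = X ∧
        ∃ _h : ((X : Subgroup G).subgroupOf (normalizer ((X : Subgroup G) : Set G))).Normal,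
          IsCyclic (↥(normalizer ((X : Subgroup G) : Set G)) ⧸ (X : Subgroup G).subgroupOf (normalizer ((X : Subgroup G) : Set G))) ∧
          Nat.card (↥(normalizer ((X : Subgroup G) : Set G)) ⧸ (X : Subgroup G).subgroupOf (normalizer ((X : Subgroup G) : Set G))) = 9) ∧
    (∀ Y : Sylow 17 G, centralizer ((Y : Subgroup G) : Set G) = Y ∧
        ∃ _h : ((Y : Subgroup G).subgroupOf (normalizer ((Y : Subgroup G) : Set G))).Normal,
          IsCyclic (↥(normalizer ((Y : Subgroup G) : Set G)) ⧸ (Y : Subgroup G).subgroupOf (normalizer ((Y : Subgroup G) : Set G))) ∧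
          Nat.card (↥(normalizer ((Y : Subgroup G) : Set G)) ⧸ (Y : Subgroup G).subgroupOf (normalizer ((Y : Subgroup G) : Set G))) = 8) := by
  obtain ⟨F, iF, iT, ω, hF, hω, ⟨e⟩⟩ := hG
  have h := Fld.of_card hF hω
  haveI : Fact (Nat.Prime 17) := ⟨by norm_num⟩
  haveI : Fact (Nat.Prime 19) := ⟨by norm_num⟩
  exact ⟨transport e 19 9 (nineteen hF h), transport e 17 8 (seventeen hF h)⟩

end Cfsg.Agent.Lib.J3.ModelLocal
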